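import Groth.Agent.Cubic.K656.Eckardt2

set_option autoImplicit false

/-! Translation between cubic polynomials and trilinear forms for Eckardt points. -/

namespace K656.Bridge

open K656.Trilin K656.Eckardt Module MvPolynomial

universe u

variable {k : Type u} [Field k]

theorem smooth_tri [CharZero k] {n : ℕ} {f : MvPolynomial (Fin n) k} (hf : f.IsHomogeneous 3)
    (hsm : ∀ v : Fin n → k, v ≠ 0 → eval v f = 0 → ∃ i : Fin n, eval v (pderiv i f) ≠ 0) :
    Smooth (tri f) := by
  intro v hv hvv
  rw [tri_diag hf] at hvv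
  exact (exists_pderiv_ne_zero_iff hf v).mp (hsm v hv hvv)

theorem eck_tri [CharZero k] {n : ℕ} {f : MvPolynomial (Fin n) k} (hf : f.IsHomogeneous 3)
    {e : Fin n → k} :
    Eck (tri f) e ↔ (∃ U : Fin 3 → Submodule k (Fin n → k), Function.Injective U ∧
        ∀ i : Fin 3, Module.finrank k ↥(U i) = 2 ∧ e ∈ U i ∧ ∀ u ∈ U i, eval u f = 0) := by
  unfold Eck
  simp only [tri_diag hf]

theorem isInv_tri [CharZero k] {n : ℕ} {f : MvPolynomial (Fin n) k} (hf : f.IsHomogeneous 3)
    {e : Fin n → k} (A : Matrix (Fin n) (Fin n) k) :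
    IsInv (tri f) e (Matrix.toLin' A) ↔
      (A * A = 1 ∧ Module.finrank k ↥(LinearMap.ker (Matrix.toLin' A - LinearMap.id)) = 3 ∧
        A.mulVec e = -e ∧
        ∃ c : k, aeval (fun i : Fin n => ∑ j : Fin n, C (A i j) * X j) f = C c * f) := by
  have : Infinite k := Infinite.of_injective (Nat.cast : ℕ → k) Nat.cast_injective
  unfold IsInv
  simp only [tri_diag hf, Matrix.toLin'_apply, aeval_linear_eq_C_mul_iff]
  refine and_congr ?_ Iff.rfl
  constructor
  · intro h
    apply Matrix.toLin'.injective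
    refine LinearMap.ext fun v => ?_
    rw [Matrix.toLin'_mul, Matrix.toLin'_one]
    simp only [LinearMap.comp_apply, Matrix.toLin'_apply, LinearMap.id_apply]
    rw [h]
  · intro h v
    rw [Matrix.mulVec_mulVec, h, Matrix.one_mulVec]

theorem finrank4 : Module.finrank k (Fin 4 → k) = 4 := by simp

end K656.Bridge
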