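import Groth.Agent.Cubic.K656.Pencil

set_option autoImplicit false

/-! T-points on cubic surfaces which are singular along a line. -/

namespace K656.DLine

open K656.Trilin K656.Eckardt K656.TPoint K656.Sing K656.Pencil Module

universe u v

variable {k : Type u} [Field k] {V : Type v} [AddCommGroup V] [Module k V]
variable {T : V →ₗ[k] V →ₗ[k] V →ₗ[k] k} {D : Submodule k V}

theorem pair_zero [CharZero k] (hT : IsSym3 T) (hD : DoubleLine T D) {x y : V} (hx : x ∈ D)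
    (hy : y ∈ D) (w : V) : T x y w = 0 := by
  have h1 := hD.2 _ (D.add_mem hx hy) w
  simp only [map_add, LinearMap.add_apply] at h1
  rw [hD.2 x hx, hD.2 y hy, hT.s12 y x] at h1
  have h2 : 2 * T x y w = 0 := by linear_combination h1
  exact (mul_eq_zero.mp h2).resolve_left two_ne_zero

theorem cube_eq [CharZero k] (hT : IsSym3 T) (hD : DoubleLine T D) {x : V} (hx : x ∈ D) (c : k)
    {b : V} (hb : T b b b = 0) :
    T (x + c • b) (x + c • b) (x + c • b) = 3 * c ^ 2 * T b b x := by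
  rw [hT.cube_add_smul, hD.2 x hx, hD.2 x hx, hb, hT.rot x b b]
  ring

/-- (R) -/
theorem exists_ne [CharZero k] [FiniteDimensional k V] (hT : IsSym3 T) (hN : NoPlane T)
    (hD : DoubleLine T D) {b : V} (hbD : b ∉ D) (hb : T b b b = 0) : ∃ x ∈ D, T b b x ≠ 0 := by
  obtain ⟨y, hy, hy'⟩ := hN _ (finrank_plane hD.1 hbD)
  obtain ⟨x, hx, z, hz, rfl⟩ := Submodule.mem_sup.mp hy
  obtain ⟨c, rfl⟩ := Submodule.mem_span_singleton.mp hz
  refine ⟨x, hx, fun h => hy' ?_⟩
  rw [cube_eq hT hD hx c hb, h, mul_zero]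

/-- the point of the double line on the ruling through `b` -/
theorem exists_ruling [CharZero k] [FiniteDimensional k V] (hT : IsSym3 T) (hN : NoPlane T)
    (hD : DoubleLine T D) {b : V} (hbD : b ∉ D) (hb : T b b b = 0) :
    ∃ y ∈ D, y ≠ 0 ∧ T b b y = 0 := by
  obtain ⟨x, hx, hx'⟩ := exists_ne hT hN hD hbD hb
  have h1 := finrank_inf_ker (P := D) (M := T b b) ⟨x, hx, hx'⟩
  rw [hD.1] at h1
  have h2 : finrank k ↥(D ⊓ LinearMap.ker (T b b)) = 1 := by omega
  obtain ⟨y, hy, hy0, -⟩ := exists_ne_zero_of_finrank_one h2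
  exact ⟨y, hy.1, hy0, hy.2⟩

theorem ruling_unique [CharZero k] [FiniteDimensional k V] (hT : IsSym3 T) (hN : NoPlane T)
    (hD : DoubleLine T D) {b : V} (hbD : b ∉ D) (hb : T b b b = 0) {y : V} (hy : y ∈ D)
    (hy0 : y ≠ 0) (hby : T b b y = 0) {x : V} (hx : x ∈ D) (hbx : T b b x = 0) :
    x ∈ Submodule.span k {y} := by
  obtain ⟨x', hx', hx''⟩ := exists_ne hT hN hD hbD hb
  have h1 := finrank_inf_ker (P := D) (M := T b b) ⟨x', hx', hx''⟩
  rw [hD.1] at h1
  have h3 : Submodule.span k {y} = D ⊓ LinearMap.ker (T b b) := by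
    apply Submodule.eq_of_le_of_finrank_eq
    · rw [Submodule.span_singleton_le_iff_mem]; exact ⟨hy, hby⟩
    · rw [finrank_span_singleton hy0]; omega
  rw [h3]; exact ⟨hx, hbx⟩

theorem not_mem_of_smooth (hD : DoubleLine T D) {b : V} (hsm : ∃ w, T b b w ≠ 0) : b ∉ D := by
  obtain ⟨w, hw⟩ := hsm
  exact fun h => hw (hD.2 b h w)

/-- Dichotomy for T-points. -/
theorem dichotomy [CharZero k] [FiniteDimensional k V] (hV : finrank k V = 4) (hT : IsSym3 T)
    (hN : NoPlane T) (hD : DoubleLine T D) {b : V} (hb : TP T b) :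
    (∃ y ∈ D, y ≠ 0 ∧ ∀ w, T y b w = 0) ∨ (∃ E ∈ Lines T, b ∈ E ∧ E ⊓ D = ⊥) := by
  obtain ⟨M₁, M₂, M₃, hM, h1, h2, hn1, hn2, hn3⟩ := exists_forms hV hT hN hb
  have hbD := not_mem_of_smooth hD hb.2.2.1
  obtain ⟨y, hy, hy0, hby⟩ := exists_ruling hT hN hD hbD hb.2.1
  have key : ∀ M : V →ₗ[k] k, (∀ x, T b b x = 0 → M x = 0 → T x x x = 0) → M b = 0 →
      (∃ x, T b b x = 0 ∧ M x ≠ 0) → M y ≠ 0 → (∃ E ∈ Lines T, b ∈ E ∧ E ⊓ D = ⊥) := by
    intro M hM0 hMb hMn hMy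
    refine ⟨_, line_of_factor hV hb.2.2.1 hM0 hMn, ⟨hb.2.1, hMb⟩, ?_⟩
    rw [Submodule.eq_bot_iff]
    rintro x ⟨⟨hx1, hx2⟩, hxD⟩
    obtain ⟨c, rfl⟩ := Submodule.mem_span_singleton.mp
      (ruling_unique hT hN hD hbD hb.2.1 hy hy0 hby hxD hx1)
    have : M (c • y) = 0 := hx2
    rw [map_smul, smul_eq_mul] at this
    rw [(mul_eq_zero.mp this).resolve_right hMy, zero_smul]
  by_cases hy1 : M₁ y = 0
  · by_cases hy2 : M₂ y = 0
    · left
      refine ⟨y, hy, hy0, fun w => ?_⟩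
      obtain ⟨x, hx, hx'⟩ := exists_ne hT hN hD hbD hb.2.1
      have h3 : T b b (w - (T b b w / T b b x) • x) = 0 := by
        rw [map_sub, map_smul, smul_eq_mul]; field_simp; ring
      have h4 := sq_eq_zero_of_forms hT hM hby hb.2.1 hy1 hy2 h1 h2 h3
      rw [map_sub, map_smul, hT.s23 y b x, pair_zero hT hD hy hx, smul_zero, sub_zero] at h4
      exact h4
    · right
      exact key M₂ (fun x hx h => by rw [hM x hx, h]; ring) h2 hn2 hy2
  · right
    exact key M₁ (fun x hx h => by rw [hM x hx, h]; ring) h1 hn1 hy1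

theorem exists_dec [FiniteDimensional k V] (hV : finrank k V = 4) (hD : finrank k ↥D = 2)
    {b b' : V} (hb : b ∉ D) (hb' : b' ∉ D ⊔ Submodule.span k {b}) (v : V) :
    ∃ x ∈ D, ∃ c c' : k, v = x + c • b + c' • b' := by
  have h3 := finrank_plane hD hb
  have hlt : D ⊔ Submodule.span k {b} < (D ⊔ Submodule.span k {b}) ⊔ Submodule.span k {b'} := by
    refine lt_of_le_of_ne le_sup_left fun h => hb' ?_
    rw [h]
    exact (le_sup_right : Submodule.span k {b'} ≤ _) (Submodule.mem_span_singleton_self _)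
  have h4 := Submodule.finrank_lt_finrank_of_lt hlt
  have h5 := Submodule.finrank_le ((D ⊔ Submodule.span k {b}) ⊔ Submodule.span k {b'})
  have htop : (D ⊔ Submodule.span k {b}) ⊔ Submodule.span k {b'} = ⊤ :=
    Submodule.eq_top_of_finrank_eq (by omega)
  have hv : v ∈ (D ⊔ Submodule.span k {b}) ⊔ Submodule.span k {b'} := by rw [htop]; trivial
  obtain ⟨y, hy, z, hz, rfl⟩ := Submodule.mem_sup.mp hv
  obtain ⟨x, hx, w, hw, rfl⟩ := Submodule.mem_sup.mp hy
  obtain ⟨c, rfl⟩ := Submodule.mem_span_singleton.mp hw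
  obtain ⟨c', rfl⟩ := Submodule.mem_span_singleton.mp hz
  exact ⟨x, hx, c, c', rfl⟩

/-- (i-a) -/
theorem mem_ruling [CharZero k] [FiniteDimensional k V] (hV : finrank k V = 4) (hT : IsSym3 T)
    (hN : NoPlane T) (hC : NoCone T) (hD : DoubleLine T D) {y : V} (hy : y ∈ D) (hy0 : y ≠ 0)
    {b b' : V} (hbD : b ∉ D) (hbD' : b' ∉ D) (hb : T b b b = 0) (hb' : T b' b' b' = 0)
    (h : ∀ w, T y b w = 0) (h' : ∀ w, T y b' w = 0) : ∃ r c : k, c ≠ 0 ∧ b' = r • y + c • b := by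
  by_cases hmem : b' ∈ D ⊔ Submodule.span k {b}
  · obtain ⟨x, hx, z, hz, hxz⟩ := Submodule.mem_sup.mp hmem
    obtain ⟨c, rfl⟩ := Submodule.mem_span_singleton.mp hz
    have hc : c ≠ 0 := by
      rintro rfl; apply hbD'; rw [← hxz, zero_smul, add_zero]; exact hx
    have h1 : 3 * c ^ 2 * T b b x = 0 := by rw [← cube_eq hT hD hx c hb, hxz, hb']
    have h2 : T b b x = 0 :=
      (mul_eq_zero.mp h1).resolve_left (mul_ne_zero (by norm_num) (pow_ne_zero 2 hc))
    obtain ⟨r, hr⟩ := Submodule.mem_span_singleton.mp (ruling_unique hT hN hD hbD hb hy hy0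
      (by rw [← hT.rot y b b]; exact h b) hx h2)
    exact ⟨r, c, hc, by rw [hr, hxz]⟩
  · exfalso
    apply hy0
    apply hC
    intro v w
    obtain ⟨x, hx, c, c', rfl⟩ := exists_dec hV hD.1 hbD hmem v
    simp only [map_add, map_smul, LinearMap.add_apply, LinearMap.smul_apply, h, h', smul_zero,
      add_zero]
    exact pair_zero hT hD hy hx w

/-- (i-c) -/
theorem no_three [CharZero k] [FiniteDimensional k V] (hV : finrank k V = 4) (hT : IsSym3 T)
    (hN : NoPlane T) (hD : DoubleLine T D) {y₁ y₂ y₃ b₁ b₂ b₃ : V}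
    (hy1 : y₁ ∈ D) (hy2 : y₂ ∈ D) (hy3 : y₃ ∈ D) (hy10 : y₁ ≠ 0)
    (hy12 : y₂ ∉ Submodule.span k {y₁}) (hy13 : y₃ ∉ Submodule.span k {y₁})
    (hy23 : y₃ ∉ Submodule.span k {y₂})
    (hbD1 : b₁ ∉ D) (hbD2 : b₂ ∉ D) (hbD3 : b₃ ∉ D) (hb1 : T b₁ b₁ b₁ = 0)
    (hb2 : T b₂ b₂ b₂ = 0)
    (h1 : ∀ w, T y₁ b₁ w = 0) (h2 : ∀ w, T y₂ b₂ w = 0) (h3 : ∀ w, T y₃ b₃ w = 0) : False := by
  have hDs := eq_span_pair hD.1 hy10 hy1 hy2 hy12
  have hy20 : y₂ ≠ 0 := by rintro rfl; exact hy12 (Submodule.zero_mem _)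
  rw [hDs] at hy3
  obtain ⟨α, β, hαβ⟩ := Submodule.mem_span_pair.mp hy3
  have hα : α ≠ 0 := by
    rintro rfl
    apply hy23
    rw [← hαβ, zero_smul, zero_add]
    exact Submodule.smul_mem _ _ (Submodule.mem_span_singleton_self _)
  have hβ : β ≠ 0 := by
    rintro rfl
    apply hy13
    rw [← hαβ, zero_smul, add_zero]
    exact Submodule.smul_mem _ _ (Submodule.mem_span_singleton_self _)
  have hb21 : b₂ ∉ D ⊔ Submodule.span k {b₁} := by
    intro hmem
    obtain ⟨x, hx, z, hz, hxz⟩ := Submodule.mem_sup.mp hmem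
    obtain ⟨c, rfl⟩ := Submodule.mem_span_singleton.mp hz
    obtain ⟨x', hx', hx''⟩ := exists_ne hT hN hD hbD2 hb2
    apply hx''
    rw [hDs] at hx'
    obtain ⟨γ, δ, rfl⟩ := Submodule.mem_span_pair.mp hx'
    rw [hT.rot' b₂ b₂]
    simp only [map_add, map_smul, LinearMap.add_apply, LinearMap.smul_apply, h2, smul_zero,
      add_zero]
    have : T y₁ b₂ b₂ = 0 := by
      conv_lhs => rw [← hxz]
      simp only [map_add, map_smul, LinearMap.add_apply, LinearMap.smul_apply, h1, smul_zero,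
        add_zero, pair_zero hT hD hy1 hx]
    rw [this, smul_zero]
  have n1 : T y₂ b₁ b₁ ≠ 0 := by
    obtain ⟨x', hx', hx''⟩ := exists_ne hT hN hD hbD1 hb1
    intro h
    apply hx''
    rw [hDs] at hx'
    obtain ⟨γ, δ, rfl⟩ := Submodule.mem_span_pair.mp hx'
    rw [hT.rot' b₁ b₁]
    simp only [map_add, map_smul, LinearMap.add_apply, LinearMap.smul_apply, h1, h, smul_zero,
      add_zero]
  have n2 : T y₁ b₂ b₂ ≠ 0 := by
    obtain ⟨x', hx', hx''⟩ := exists_ne hT hN hD hbD2 hb2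
    intro h
    apply hx''
    rw [hDs] at hx'
    obtain ⟨γ, δ, rfl⟩ := Submodule.mem_span_pair.mp hx'
    rw [hT.rot' b₂ b₂]
    simp only [map_add, map_smul, LinearMap.add_apply, LinearMap.smul_apply, h2, h, smul_zero,
      add_zero]
  obtain ⟨x, hx, γ, δ, hb3⟩ := exists_dec hV hD.1 hbD1 hb21 b₃
  have hT3 : ∀ w, α * δ * T y₁ b₂ w + β * γ * T y₂ b₁ w = 0 := by
    intro w
    have h4 := h3 w
    rw [hb3, ← hαβ] at h4
    simp only [map_add, map_smul, LinearMap.add_apply, LinearMap.smul_apply, h1, h2,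
      pair_zero hT hD hy1 hx, pair_zero hT hD hy2 hx, smul_eq_mul] at h4
    linear_combination h4
  have hγ : γ = 0 := by
    have h4 := hT3 b₁
    rw [hT.s23 y₁ b₂ b₁, h1, mul_zero, zero_add] at h4
    have h5 := (mul_eq_zero.mp h4).resolve_right n1
    exact (mul_eq_zero.mp h5).resolve_left hβ
  have hδ : δ = 0 := by
    have h4 := hT3 b₂
    rw [hγ, mul_zero, zero_mul, add_zero] at h4
    have h5 := (mul_eq_zero.mp h4).resolve_right n2
    exact (mul_eq_zero.mp h5).resolve_left hα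
  apply hbD3
  rw [hb3, hγ, hδ, zero_smul, zero_smul, add_zero, add_zero]
  exact hx

/-- (U) uniqueness of the directrix -/
theorem directrix_unique [CharZero k] [FiniteDimensional k V] (hV : finrank k V = 4)
    (hT : IsSym3 T) (hN : NoPlane T) (hC : NoCone T) (hD : DoubleLine T D)
    {E E' : Submodule k V} (hE : E ∈ Lines T) (hE' : E' ∈ Lines T) (hED : E ⊓ D = ⊥)
    (hED' : E' ⊓ D = ⊥) : E = E' := by
  have hE0 : ∀ x ∈ E, ∀ y ∈ E, ∀ z ∈ E, T x y z = 0 := fun x hx y hy z hz =>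
    hT.eq_zero_of_diag E hE.2 hx hy hz
  have hE0' : ∀ x ∈ E', ∀ y ∈ E', ∀ z ∈ E', T x y z = 0 := fun x hx y hy z hz =>
    hT.eq_zero_of_diag E' hE'.2 hx hy hz
  have hDE : D ⊔ E = ⊤ := by
    have h4 := Submodule.finrank_sup_add_finrank_inf_eq E D
    rw [hED, finrank_bot, hE.1, hD.1] at h4
    rw [sup_comm]
    exact Submodule.eq_top_of_finrank_eq (by omega)
  have hdec : ∀ v, ∃ x ∈ D, ∃ z ∈ E, x + z = v := fun v =>
    Submodule.mem_sup.mp (by rw [hDE]; trivial)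
  have hnE : ∀ z ∈ E, z ≠ 0 → z ∉ D := fun z hz hz0 hzD => hz0 (by
    have : z ∈ E ⊓ D := ⟨hz, hzD⟩
    rw [hED] at this; exact (Submodule.mem_bot k).mp this)
  by_contra hne
  -- relations for z₁' = x₁ + z₁, z₂' = x₂ + z₂ in E'
  have rel3 : ∀ x ∈ D, ∀ z ∈ E, x + z ∈ E' → T x z z = 0 := by
    intro x hx z hz h
    have h1 := hE'.2 _ h
    rw [hT.cube_add, hD.2 x hx, hD.2 x hx, hE.2 z hz] at h1
    have h2 : 3 * T x z z = 0 := by linear_combination h1
    exact (mul_eq_zero.mp h2).resolve_left (by norm_num)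
  have rel : ∀ x ∈ D, ∀ z ∈ E, x + z ∈ E' → ∀ x' ∈ D, ∀ z' ∈ E, x' + z' ∈ E' →
      2 * T x z z' + T x' z z = 0 := by
    intro x hx z hz h x' hx' z' hz' h'
    have h1 := hE0' _ h _ h _ h'
    simp only [map_add, LinearMap.add_apply] at h1
    have e1 : T z x x' = 0 := by rw [hT.rot]; exact pair_zero hT hD hx hx' z
    have e2 : T x z x' = 0 := by rw [hT.s23]; exact pair_zero hT hD hx hx' z
    have e3 : T z z x' = T x' z z := hT.rot' _ _ _
    have e4 : T z x z' = T x z z' := hT.s12 _ _ _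
    simp only [hD.2 x hx, e1, e2, e3, e4, hE0 z hz z hz z' hz'] at h1
    linear_combination h1
  by_cases hEE : E ⊓ E' = ⊥
  · -- basis of E'
    have hb' : E' ≠ ⊥ := by
      intro h0; have := hE'.1; rw [h0, finrank_bot] at this; omega
    obtain ⟨u₁, hu₁, hu₁0⟩ := Submodule.exists_mem_ne_zero_of_ne_bot hb'
    obtain ⟨u₂, hu₂, hu₁₂, -⟩ := exists_span_pair hE'.1 hu₁0 hu₁
    obtain ⟨x₁, hx₁, z₁, hz₁, rfl⟩ := hdec u₁
    obtain ⟨x₂, hx₂, z₂, hz₂, rfl⟩ := hdec u₂
    have hx₁0 : x₁ ≠ 0 := by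
      rintro rfl
      rw [zero_add] at hu₁ hu₁0
      have : z₁ ∈ E ⊓ E' := ⟨hz₁, hu₁⟩
      rw [hEE] at this; exact hu₁0 ((Submodule.mem_bot k).mp this)
    have hz₁0 : z₁ ≠ 0 := by
      rintro rfl
      rw [add_zero] at hu₁ hu₁0
      have : x₁ ∈ E' ⊓ D := ⟨hu₁, hx₁⟩
      rw [hED'] at this; exact hu₁0 ((Submodule.mem_bot k).mp this)
    have hx₂' : x₂ ∉ Submodule.span k {x₁} := by
      intro h
      obtain ⟨c, rfl⟩ := Submodule.mem_span_singleton.mp h
      apply hu₁₂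
      have h1 : z₂ - c • z₁ ∈ E ⊓ E' := by
        refine ⟨E.sub_mem hz₂ (E.smul_mem _ hz₁), ?_⟩
        have : z₂ - c • z₁ = (c • x₁ + z₂) - c • (x₁ + z₁) := by module
        rw [this]; exact E'.sub_mem hu₂ (E'.smul_mem _ hu₁)
      rw [hEE, Submodule.mem_bot, sub_eq_zero] at h1
      rw [h1, ← smul_add]
      exact Submodule.smul_mem _ _ (Submodule.mem_span_singleton_self _)
    have hz₂' : z₂ ∉ Submodule.span k {z₁} := by
      intro h
      obtain ⟨c, rfl⟩ := Submodule.mem_span_singleton.mp h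
      apply hu₁₂
      have h1 : x₂ - c • x₁ ∈ E' ⊓ D := by
        refine ⟨?_, D.sub_mem hx₂ (D.smul_mem _ hx₁)⟩
        have : x₂ - c • x₁ = (x₂ + c • z₁) - c • (x₁ + z₁) := by module
        rw [this]; exact E'.sub_mem hu₂ (E'.smul_mem _ hu₁)
      rw [hED', Submodule.mem_bot, sub_eq_zero] at h1
      rw [h1, ← smul_add]
      exact Submodule.smul_mem _ _ (Submodule.mem_span_singleton_self _)
    have hDs := eq_span_pair hD.1 hx₁0 hx₁ hx₂ hx₂'
    have r1 := rel3 x₁ hx₁ z₁ hz₁ hu₁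
    have r2 := rel3 x₂ hx₂ z₂ hz₂ hu₂
    have r3 := rel x₁ hx₁ z₁ hz₁ hu₁ x₂ hx₂ z₂ hz₂ hu₂
    have r4 := rel x₂ hx₂ z₂ hz₂ hu₂ x₁ hx₁ z₁ hz₁ hu₁
    rw [hT.s23 x₂ z₂ z₁] at r4
    -- a common zero
    have hcommon : ∃ z₀ ∈ E, z₀ ≠ 0 ∧ T x₁ z₀ z₀ = 0 ∧ T x₂ z₀ z₀ = 0 := by
      by_cases hpq : T x₁ z₁ z₂ = 0 ∧ T x₂ z₁ z₂ = 0
      · refine ⟨z₁, hz₁, hz₁0, r1, ?_⟩
        rw [hpq.1] at r3; linear_combination r3
      · refine ⟨T x₂ z₁ z₂ • z₁ + T x₁ z₁ z₂ • z₂, E.add_mem (E.smul_mem _ hz₁)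
          (E.smul_mem _ hz₂), ?_, ?_, ?_⟩
        · intro h
          apply hpq
          have hli : LinearIndependent k ![z₁, z₂] := by
            rw [LinearIndependent.pair_iff' hz₁0]
            intro a ha
            exact hz₂' (Submodule.mem_span_singleton.mpr ⟨a, ha⟩)
          rw [LinearIndependent.pair_iff] at hli
          exact ⟨(hli _ _ h).2, (hli _ _ h).1⟩
        · simp only [map_add, map_smul, LinearMap.add_apply, LinearMap.smul_apply, smul_eq_mul]
          rw [hT.s23 x₁ z₂ z₁, r1]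
          linear_combination (T x₁ z₁ z₂) ^ 2 * r4
        · simp only [map_add, map_smul, LinearMap.add_apply, LinearMap.smul_apply, smul_eq_mul]
          rw [hT.s23 x₂ z₂ z₁, r2]
          linear_combination (T x₂ z₁ z₂) ^ 2 * r3
    obtain ⟨z₀, hz₀, hz₀0, e1, e2⟩ := hcommon
    obtain ⟨x, hx, hx'⟩ := exists_ne hT hN hD (hnE z₀ hz₀ hz₀0) (hE.2 z₀ hz₀)
    apply hx'
    rw [hDs] at hx
    obtain ⟨γ, δ, rfl⟩ := Submodule.mem_span_pair.mp hx
    rw [hT.rot' z₀ z₀]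
    simp only [map_add, map_smul, LinearMap.add_apply, LinearMap.smul_apply, e1, e2, smul_zero,
      add_zero]
  · -- the two lines meet
    obtain ⟨z₁, hz₁, hz₁0⟩ := Submodule.exists_mem_ne_zero_of_ne_bot hEE
    obtain ⟨u₂, hu₂, hu₁₂, hE's⟩ := exists_span_pair hE'.1 hz₁0 hz₁.2
    obtain ⟨x₂, hx₂, z₂, hz₂, rfl⟩ := hdec u₂
    have hx₂0 : x₂ ≠ 0 := by
      rintro rfl
      rw [zero_add] at hu₂ hu₁₂ hE's
      apply hne
      rw [hE's]
      exact eq_span_pair hE.1 hz₁0 hz₁.1 hz₂ hu₁₂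
    have hz₂' : z₂ ∉ Submodule.span k {z₁} := by
      intro h
      obtain ⟨c, rfl⟩ := Submodule.mem_span_singleton.mp h
      apply hx₂0
      have h1 : x₂ ∈ E' ⊓ D := by
        refine ⟨?_, hx₂⟩
        have : x₂ = (x₂ + c • z₁) - c • z₁ := by module
        rw [this]; exact E'.sub_mem hu₂ (E'.smul_mem _ hz₁.2)
      rw [hED', Submodule.mem_bot] at h1
      exact h1
    have hEs := eq_span_pair hE.1 hz₁0 hz₁.1 hz₂ hz₂'
    have h0z₁ : (0 : V) + z₁ ∈ E' := by rw [zero_add]; exact hz₁.2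
    have r2 := rel3 x₂ hx₂ z₂ hz₂ hu₂
    have r3 := rel 0 D.zero_mem z₁ hz₁.1 h0z₁ x₂ hx₂ z₂ hz₂ hu₂
    have r4 := rel x₂ hx₂ z₂ hz₂ hu₂ 0 D.zero_mem z₁ hz₁.1 h0z₁
    simp only [map_zero, LinearMap.zero_apply, mul_zero, zero_add, add_zero] at r3 r4
    have r4' : T x₂ z₁ z₂ = 0 := by
      rw [hT.s23]; exact (mul_eq_zero.mp r4).resolve_left two_ne_zero
    have r4'' : T x₂ z₂ z₁ = 0 := by rw [hT.s23]; exact r4'
    apply hx₂0
    apply hC
    intro v w
    obtain ⟨xv, hxv, zv, hzv, rfl⟩ := hdec v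
    obtain ⟨xw, hxw, zw, hzw, rfl⟩ := hdec w
    rw [hEs] at hzv hzw
    obtain ⟨a, b, rfl⟩ := Submodule.mem_span_pair.mp hzv
    obtain ⟨c, d, rfl⟩ := Submodule.mem_span_pair.mp hzw
    rw [map_add (T x₂), LinearMap.add_apply, pair_zero hT hD hx₂ hxv, zero_add, map_add,
      hT.s23 x₂ _ xw, pair_zero hT hD hx₂ hxw, zero_add]
    simp only [map_add, map_smul, LinearMap.add_apply, LinearMap.smul_apply, r2, r3, r4', r4'',
      smul_zero, add_zero]

/-- **T-points on a cubic surface with a double line.** -/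
theorem finite_of_doubleLine [CharZero k] [IsAlgClosed k] [FiniteDimensional k V]
    (hV : finrank k V = 4) (hT : IsSym3 T) (hN : NoPlane T) (hC : NoCone T)
    (hD : DoubleLine T D)
    {a : V} (ha : a ≠ 0) (haa : T a a a = 0) (hsm : ∃ w, T a a w ≠ 0) (hn : ¬ TP T a) :
    (TPset T a).Finite := by
  have haD := not_mem_of_smooth hD hsm
  -- type (ii)
  have hii : {U | U ∈ TPset T a ∧ ∃ E ∈ Lines T, E ⊓ D = ⊥ ∧ U ≤ E}.Subsingleton := by
    rintro U ⟨hU, E, hE, hED, hUE⟩ U' ⟨hU', E', hE', hED', hUE'⟩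
    have hEE := directrix_unique hV hT hN hC hD hE hE' hED hED'
    subst hEE
    have hEH : ¬ E ≤ LinearMap.ker (T a a) := by
      intro hEH
      obtain ⟨y, hy, hy0, hay⟩ := exists_ruling hT hN hD haD haa
      apply hn
      refine tp_of_line hV hT ha haa hsm hE (fun x hx => hEH hx) hay ?_ ?_ (hD.2 y hy y)
      · intro hyE
        apply hy0
        have : y ∈ E ⊓ D := ⟨hyE, hy⟩
        rw [hED] at this; exact (Submodule.mem_bot k).mp this
      · intro x hx
        rw [hT.rot]; exact hD.2 y hy x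
    rw [inf_eq_of_ne hE.1 hEH hU.1 hUE hU.2.1, inf_eq_of_ne hE.1 hEH hU'.1 hUE' hU'.2.1]
  -- type (i)
  have hi : {U | U ∈ TPset T a ∧ ∃ b ∈ U, b ≠ 0 ∧ ∃ y ∈ D, y ≠ 0 ∧ ∀ w, T y b w = 0}.Finite := by
    by_contra hinf
    obtain ⟨F, hF, hcard⟩ := (Set.not_finite.mp hinf).exists_subset_card_eq 3
    set φ : Fin 3 ≃ F := (F.equivFinOfCardEq hcard).symm with hφ
    have hmem := fun i => hF (φ i).2
    choose hTP b hb hb0 y hy hy0 hyb using hmem
    have hbT : ∀ i, TP T (b i) := fun i => (hTP i).2.2 (b i) (hb i) (hb0 i)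
    have hbD : ∀ i, b i ∉ D := fun i => not_mem_of_smooth hD (hbT i).2.2.1
    have hbH : ∀ i, T a a (b i) = 0 := fun i => (hTP i).2.1 (hb i)
    have hspan : ∀ i, (φ i : Submodule k V) = Submodule.span k {b i} := by
      intro i
      have : FiniteDimensional k ↥(φ i : Submodule k V) := inferInstance
      symm
      apply Submodule.eq_of_le_of_finrank_eq
      · rw [Submodule.span_singleton_le_iff_mem]; exact hb i
      · rw [finrank_span_singleton (hb0 i), (hTP i).1]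
    have hpair : ∀ i j, i ≠ j → y j ∉ Submodule.span k {y i} := by
      intro i j hij h
      obtain ⟨c, hc⟩ := Submodule.mem_span_singleton.mp h
      have hc0 : c ≠ 0 := by rintro rfl; rw [zero_smul] at hc; exact hy0 j hc.symm
      have hyj : ∀ w, T (y i) (b j) w = 0 := by
        intro w
        have h1 := hyb j w
        rw [← hc, map_smul] at h1
        simp only [LinearMap.smul_apply, smul_eq_mul] at h1
        exact (mul_eq_zero.mp h1).resolve_left hc0
      obtain ⟨r, s, hs, hrs⟩ := mem_ruling hV hT hN hC hD (hy i) (hy0 i) (hbD i) (hbD j)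
        (hbT i).2.1 (hbT j).2.1 (hyb i) hyj
      by_cases hr : r = 0
      · rw [hr, zero_smul, zero_add] at hrs
        apply hij
        apply φ.injective
        apply Subtype.ext
        rw [hspan i, hspan j, hrs]
        exact (Submodule.span_singleton_smul_eq (IsUnit.mk0 s hs) (b i)).symm
      · -- the line ⟨y, b⟩ lies in H
        have hyH : T a a (y i) = 0 := by
          have h1 := hbH j
          rw [hrs, map_add, map_smul, map_smul, hbH i, smul_zero, add_zero, smul_eq_mul] at h1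
          exact (mul_eq_zero.mp h1).resolve_left hr
        have hbs : b i ∉ Submodule.span k {y i} := by
          intro h1
          obtain ⟨c, hc⟩ := Submodule.mem_span_singleton.mp h1
          apply hbD i; rw [← hc]; exact D.smul_mem _ (hy i)
        have hΛ : Submodule.span k {y i, b i} ∈ Lines T := by
          refine ⟨finrank_span_pair' (hy0 i) hbs, fun u hu => ?_⟩
          obtain ⟨α, β, rfl⟩ := Submodule.mem_span_pair.mp hu
          rw [cube_eq hT hD (D.smul_mem _ (hy i)) β (hbT i).2.1, map_smul,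
            ← hT.rot (y i) (b i) (b i), hyb i, smul_zero, mul_zero]
        have haΛ := mem_of_line_le hV hT ha haa hsm hn hΛ (by
          intro x hx
          obtain ⟨α, β, rfl⟩ := Submodule.mem_span_pair.mp hx
          rw [map_add, map_smul, map_smul, hyH, hbH i]; simp)
        obtain ⟨α, β, hαβ⟩ := Submodule.mem_span_pair.mp haΛ
        have hTaa : ∀ w, T a a w = β ^ 2 * T (b i) (b i) w := by
          intro w
          rw [← hαβ, hT.sq_smul_add_smul, hD.2 (y i) (hy i), hyb i]; ring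
        have hβ : β ≠ 0 := by
          rintro rfl
          obtain ⟨w, hw⟩ := hsm
          apply hw; rw [hTaa]; ring
        apply hn
        refine tp_of_eq ha haa hsm (hbT i) fun x hx => ?_
        rw [hTaa] at hx
        exact (mul_eq_zero.mp hx).resolve_left (pow_ne_zero 2 hβ)
    exact no_three hV hT hN hD (hy 0) (hy 1) (hy 2) (hy0 0) (hpair 0 1 (by decide))
      (hpair 0 2 (by decide)) (hpair 1 2 (by decide)) (hbD 0) (hbD 1) (hbD 2)
      (hbT 0).2.1 (hbT 1).2.1 (hyb 0) (hyb 1) (hyb 2)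
  refine (hi.union hii.finite).subset ?_
  intro U hU
  obtain ⟨b, hb, hb0, hUb⟩ := exists_ne_zero_of_finrank_one hU.1
  have hbT := hU.2.2 b hb hb0
  rcases dichotomy hV hT hN hD hbT with ⟨y, hy, hy0, hyb⟩ | ⟨E, hE, hbE, hED⟩
  · exact Or.inl ⟨hU, b, hb, hb0, y, hy, hy0, hyb⟩
  · refine Or.inr ⟨hU, E, hE, hED, ?_⟩
    rw [hUb, Submodule.span_singleton_le_iff_mem]; exact hbE

end K656.DLine
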