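import Groth.Agent.Cubic.K656.Trilin
import Mathlib.FieldTheory.IsAlgClosed.Basic
import Mathlib.LinearAlgebra.Dimension.Finrank
import Mathlib.LinearAlgebra.FiniteDimensional.Lemmas

set_option autoImplicit false

/-! Eckardt points of a smooth cubic surface, in terms of a symmetric trilinear form. -/

namespace K656.Eckardt

open K656.Trilin Module

universe u v

variable {k : Type u} [Field k] {V : Type v} [AddCommGroup V] [Module k V]

/-- smoothness of the cubic `T v v v = 0`. -/
def Smooth (T : V →ₗ[k] V →ₗ[k] V →ₗ[k] k) : Prop :=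
  ∀ v : V, v ≠ 0 → T v v v = 0 → ∃ w, T v v w ≠ 0

/-- Eckardt points. -/
def Eck (T : V →ₗ[k] V →ₗ[k] V →ₗ[k] k) (e : V) : Prop :=
  ∃ U : Fin 3 → Submodule k V, Function.Injective U ∧
    ∀ i : Fin 3, finrank k ↥(U i) = 2 ∧ e ∈ U i ∧ ∀ u ∈ U i, T u u u = 0

/-- Involutions of the cubic with isolated fixed point `e`. -/
def IsInv (T : V →ₗ[k] V →ₗ[k] V →ₗ[k] k) (e : V) (A : V →ₗ[k] V) : Prop :=
  (∀ v, A (A v) = v) ∧ finrank k ↥(LinearMap.ker (A - LinearMap.id)) = 3 ∧ A e = -e ∧
    ∃ c : k, ∀ v, T (A v) (A v) (A v) = c * T v v v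

theorem finrank_span_pair' {e a : V} (he : e ≠ 0) (ha : a ∉ Submodule.span k {e}) :
    finrank k ↥(Submodule.span k {e, a}) = 2 := by
  have hlin : LinearIndependent k ![e, a] := by
    rw [LinearIndependent.pair_iff' he]
    intro c hc
    exact ha (hc ▸ Submodule.smul_mem _ _ (Submodule.mem_span_singleton_self e))
  have := finrank_span_eq_card hlin
  have hr : Set.range ![e, a] = {e, a} := by simp [Set.pair_comm]
  rw [hr] at this
  simpa using this

theorem eq_span_pair {U : Submodule k V} (hU : finrank k ↥U = 2) {e : V} (he : e ≠ 0)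
    (heU : e ∈ U) {a : V} (haU : a ∈ U) (ha : a ∉ Submodule.span k {e}) :
    U = Submodule.span k {e, a} := by
  have : FiniteDimensional k ↥U := FiniteDimensional.of_finrank_pos (by omega)
  have hle : Submodule.span k {e, a} ≤ U := by
    rw [Submodule.span_le]
    intro x hx
    rcases hx with rfl | hx
    · exact heU
    · rw [Set.mem_singleton_iff] at hx; rw [hx]; exact haU
  symm
  apply Submodule.eq_of_le_of_finrank_le hle
  rw [hU, finrank_span_pair' he ha]

theorem exists_span_pair {U : Submodule k V} (hU : finrank k ↥U = 2) {e : V} (he : e ≠ 0)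
    (heU : e ∈ U) : ∃ a ∈ U, a ∉ Submodule.span k {e} ∧ U = Submodule.span k {e, a} := by
  have : FiniteDimensional k ↥U := FiniteDimensional.of_finrank_pos (by omega)
  have h1 : Submodule.span k {e} ≤ U := by
    rw [Submodule.span_singleton_le_iff_mem]; exact heU
  have h2 : Submodule.span k {e} ≠ U := by
    intro h
    have := finrank_span_singleton (K := k) he
    rw [h] at this; omega
  obtain ⟨a, haU, ha⟩ := SetLike.exists_of_lt (lt_of_le_of_ne h1 h2)
  exact ⟨a, haU, ha, eq_span_pair hU he heU haU ha⟩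

theorem mem_ker_finrank [FiniteDimensional k V] {n : ℕ} (hV : finrank k V = n + 1)
    {ℓ : V →ₗ[k] k} (hℓ : ℓ ≠ 0) : finrank k ↥(LinearMap.ker ℓ) = n := by
  have := LinearMap.finrank_range_add_finrank_ker ℓ
  have hr : finrank k ↥(LinearMap.range ℓ) = 1 := by
    rw [LinearMap.range_eq_top.mpr (LinearMap.surjective hℓ), finrank_top, finrank_self]
  omega

/-- Normal form of the polar quadric at an Eckardt point. -/
theorem exists_polar_form [CharZero k] [FiniteDimensional k V] (hV : finrank k V = 4)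
    {T : V →ₗ[k] V →ₗ[k] V →ₗ[k] k} (hT : IsSym3 T)
    {e : V} (he : e ≠ 0) (hsm : ∃ w, T e e w ≠ 0) (hE : Eck T e) :
    ∃ m : V →ₗ[k] k, m e = 1 ∧ ∀ u v, T e u v = T e e u * m v + m u * T e e v := by
  obtain ⟨U, hinj, hU⟩ := hE
  choose hU2 hUe hU0 using hU
  have hpol : ∀ i u v w, u ∈ U i → v ∈ U i → w ∈ U i → T u v w = 0 :=
    fun i u v w hu hv hw => hT.eq_zero_of_diag (U i) (hU0 i) hu hv hw
  have hee : T e e e = 0 := hU0 0 e (hUe 0)
  obtain ⟨w0, hw0⟩ := hsm
  have hℓ0 : T e e ≠ 0 := fun h => hw0 (by rw [h]; rfl)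
  have hK : finrank k ↥(LinearMap.ker (T e e)) = 3 := mem_ker_finrank hV hℓ0
  have hUK : ∀ i, U i ≤ LinearMap.ker (T e e) := fun i x hx => by
    rw [LinearMap.mem_ker]; exact hpol i _ _ _ (hUe i) (hUe i) hx
  have hne : U 0 ⊓ U 1 < U 0 := by
    refine lt_of_le_of_ne inf_le_left fun h => ?_
    have h1 : U 0 ≤ U 1 := by rw [← h]; exact inf_le_right
    have h2 := Submodule.eq_of_le_of_finrank_eq h1 (by rw [hU2, hU2])
    exact absurd (hinj h2) (by decide)
  have hlt := Submodule.finrank_lt_finrank_of_lt hne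
  have hsum := Submodule.finrank_sup_add_finrank_inf_eq (U 0) (U 1)
  have hsup : U 0 ⊔ U 1 = LinearMap.ker (T e e) := by
    apply Submodule.eq_of_le_of_finrank_le (sup_le (hUK 0) (hUK 1))
    rw [hK]; rw [hU2] at hlt; rw [hU2, hU2] at hsum; omega
  obtain ⟨a, haU, hae, hUa⟩ := exists_span_pair (hU2 2) he (hUe 2)
  have haK : a ∈ U 0 ⊔ U 1 := by rw [hsup]; exact hUK 2 haU
  obtain ⟨x, hx, y, hy, hxy⟩ := Submodule.mem_sup.mp haK
  have hsub : ∀ i : Fin 3, i ≠ 2 → a ∉ U i := by
    intro i hi hai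
    have h1 : U 2 ≤ U i := by
      rw [hUa, Submodule.span_le]
      intro z hz
      rcases hz with rfl | hz
      · exact hUe i
      · rw [Set.mem_singleton_iff] at hz; rw [hz]; exact hai
    exact hi (hinj (Submodule.eq_of_le_of_finrank_eq h1 (by rw [hU2, hU2]))).symm
  have hsle : ∀ i, Submodule.span k {e} ≤ U i := fun i => by
    rw [Submodule.span_singleton_le_iff_mem]; exact hUe i
  have hxe : x ∉ Submodule.span k {e} := fun h =>
    hsub 1 (by decide) (hxy ▸ (U 1).add_mem (hsle 1 h) hy)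
  have hye : y ∉ Submodule.span k {e} := fun h =>
    hsub 0 (by decide) (hxy ▸ (U 0).add_mem hx (hsle 0 h))
  have hU0s := eq_span_pair (hU2 0) he (hUe 0) hx hxe
  have hU1s := eq_span_pair (hU2 1) he (hUe 1) hy hye
  have hexy : T e x y = 0 := by
    have h1 : T e a a = 0 := hpol 2 _ _ _ (hUe 2) haU haU
    rw [← hxy] at h1
    simp only [map_add, LinearMap.add_apply] at h1
    rw [hpol 0 e x x (hUe 0) hx hx, hpol 1 e y y (hUe 1) hy hy, hT.s23 e y x] at h1
    have h2 : 2 * T e x y = 0 := by rw [← h1]; ring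
    exact (mul_eq_zero.mp h2).resolve_left two_ne_zero
  have h01 : ∀ u ∈ U 0, ∀ v ∈ U 1, T e u v = 0 := by
    intro u hu v hv
    rw [hU0s] at hu; rw [hU1s] at hv
    obtain ⟨α, β, rfl⟩ := Submodule.mem_span_pair.mp hu
    obtain ⟨γ, δ, rfl⟩ := Submodule.mem_span_pair.mp hv
    simp only [map_add, map_smul, LinearMap.add_apply, LinearMap.smul_apply, smul_eq_mul]
    rw [hee, hexy, hpol 1 e e y (hUe 1) (hUe 1) hy, hpol 0 e x e (hUe 0) hx (hUe 0)]
    ring
  have hKK : ∀ u v, T e e u = 0 → T e e v = 0 → T e u v = 0 := by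
    intro u v hu hv
    have hu' : u ∈ U 0 ⊔ U 1 := by rw [hsup]; exact hu
    have hv' : v ∈ U 0 ⊔ U 1 := by rw [hsup]; exact hv
    obtain ⟨u0, hu0, u1, hu1, rfl⟩ := Submodule.mem_sup.mp hu'
    obtain ⟨v0, hv0, v1, hv1, rfl⟩ := Submodule.mem_sup.mp hv'
    simp only [map_add, LinearMap.add_apply]
    rw [hpol 0 e u0 v0 (hUe 0) hu0 hv0, hpol 1 e u1 v1 (hUe 1) hu1 hv1, h01 u0 hu0 v1 hv1,
      hT.s23 e u1 v0, h01 v0 hv0 u1 hu1]
    ring
  -- the linear form
  set w : V := (T e e w0)⁻¹ • w0 with hw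
  have hw1 : T e e w = 1 := by
    rw [hw, map_smul, smul_eq_mul, inv_mul_cancel₀ hw0]
  refine ⟨T e w - (T e w w / 2) • T e e, ?_, ?_⟩
  · rw [LinearMap.sub_apply, LinearMap.smul_apply, hee, hT.s23, hw1]; simp
  · intro u v
    have h1 : T e e (u - T e e u • w) = 0 := by
      rw [map_sub, map_smul, hw1]; simp
    have h2 : T e e (v - T e e v • w) = 0 := by
      rw [map_sub, map_smul, hw1]; simp
    have h3 := hKK _ _ h1 h2
    simp only [map_sub, map_smul, LinearMap.sub_apply, LinearMap.smul_apply, smul_eq_mul] at h3 ⊢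
    rw [hT.s23 e u w] at h3
    linear_combination h3

/-- The reflection `v ↦ v - 2 m(v) e`. -/
noncomputable def refl (m : V →ₗ[k] k) (e : V) : V →ₗ[k] V :=
  LinearMap.id - (2 : k) • m.smulRight e

theorem refl_apply (m : V →ₗ[k] k) (e v : V) : refl m e v = v - (2 * m v) • e := by
  simp [refl, mul_smul]

theorem refl_self {m : V →ₗ[k] k} {e : V} (hm : m e = 1) : refl m e e = -e := by
  rw [refl_apply, hm, mul_one, two_smul]; abel

theorem refl_refl {m : V →ₗ[k] k} {e : V} (hm : m e = 1) (v : V) :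
    refl m e (refl m e v) = v := by
  rw [refl_apply m e v, map_sub, map_smul, refl_self hm, refl_apply]
  module

theorem refl_cube {T : V →ₗ[k] V →ₗ[k] V →ₗ[k] k} (hT : IsSym3 T) {m : V →ₗ[k] k} {e : V}
    (hee : T e e e = 0) (hm : ∀ u v, T e u v = T e e u * m v + m u * T e e v) (v : V) :
    T (refl m e v) (refl m e v) (refl m e v) = T v v v := by
  have h1 : refl m e v = v + (-(2 * m v)) • e := by rw [refl_apply]; module
  rw [h1, hT.cube_add_smul, hee, hT.rot' v v e, hT.rot v e e, hm v v]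
  ring

/-- existence of the involution. -/
theorem isInv_refl [CharZero k] [FiniteDimensional k V] (hV : finrank k V = 4)
    {T : V →ₗ[k] V →ₗ[k] V →ₗ[k] k} (hT : IsSym3 T) {m : V →ₗ[k] k} {e : V}
    (hee : T e e e = 0) (hme : m e = 1)
    (hm : ∀ u v, T e u v = T e e u * m v + m u * T e e v) : IsInv T e (refl m e) := by
  refine ⟨refl_refl hme, ?_, refl_self hme, 1, fun v => by rw [refl_cube hT hee hm, one_mul]⟩
  have he : e ≠ 0 := by rintro rfl; simp at hme
  have h1 : LinearMap.ker (refl m e - LinearMap.id) = LinearMap.ker m := by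
    ext v
    rw [LinearMap.mem_ker, LinearMap.mem_ker, LinearMap.sub_apply, refl_apply, LinearMap.id_apply]
    have : v - (2 * m v) • e - v = (-(2 * m v)) • e := by module
    rw [this, smul_eq_zero, neg_eq_zero, mul_eq_zero]
    simp [he]
  rw [h1]
  apply mem_ker_finrank hV
  intro h; rw [h] at hme; simp at hme

/-- An involution with 3-dimensional fixed space and `A e = -e` satisfies `A v - v ∈ ⟨e⟩`. -/
theorem IsInv.exists_smul [CharZero k] [FiniteDimensional k V] (hV : finrank k V = 4)
    {T : V →ₗ[k] V →ₗ[k] V →ₗ[k] k} {e : V} (he : e ≠ 0) {A : V →ₗ[k] V}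
    (hA : IsInv T e A) (v : V) : ∃ r : k, A v = v + r • e := by
  obtain ⟨-, hker, hAe, -⟩ := hA
  have h1 := LinearMap.finrank_range_add_finrank_ker (A - LinearMap.id)
  have h2 : finrank k ↥(LinearMap.range (A - LinearMap.id)) = 1 := by omega
  have h3 : e ∈ LinearMap.range (A - LinearMap.id) := by
    refine ⟨(-(1 / 2 : k)) • e, ?_⟩
    rw [LinearMap.sub_apply, LinearMap.id_apply, map_smul, hAe]
    have h2 : (2 : k) ≠ 0 := two_ne_zero
    rw [smul_neg, ← neg_smul, ← sub_smul]
    have : -(-(1 / 2 : k)) - -(1 / 2) = 1 := by field_simp; norm_num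
    rw [this, one_smul]
  have h4 : Submodule.span k {e} = LinearMap.range (A - LinearMap.id) := by
    apply Submodule.eq_of_le_of_finrank_eq
    · rw [Submodule.span_singleton_le_iff_mem]; exact h3
    · rw [finrank_span_singleton he, h2]
  have h5 : (A - LinearMap.id : V →ₗ[k] V) v ∈ Submodule.span k {e} := by rw [h4]; exact ⟨v, rfl⟩
  obtain ⟨r, hr⟩ := Submodule.mem_span_singleton.mp h5
  refine ⟨r, ?_⟩
  rw [hr, LinearMap.sub_apply, LinearMap.id_apply]; abel

/-- From an involution: the polar relation. -/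
theorem IsInv.polar [CharZero k] [FiniteDimensional k V] (hV : finrank k V = 4)
    {T : V →ₗ[k] V →ₗ[k] V →ₗ[k] k} (hT : IsSym3 T) {e : V} (he : e ≠ 0)
    (hee : T e e e = 0) (hsm : ∃ w, T e e w ≠ 0) {A : V →ₗ[k] V} (hA : IsInv T e A)
    (v w : V) (r s : k) (hr : A v = v + r • e) (hs : A w = w + s • e) :
    2 * T e v w = - (s * T e e v) - r * T e e w := by
  obtain ⟨c, hc⟩ := hA.2.2.2
  have hpol := hT.polarize hT A c hc
  have hAe := hA.2.2.1
  have hc1 : c = 1 := by
    obtain ⟨w, hw⟩ := hsm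
    obtain ⟨s, hs⟩ := hA.exists_smul hV he w
    have h := hpol e e w
    rw [hAe, hs] at h
    simp only [map_neg, LinearMap.neg_apply, map_add, map_smul, smul_eq_mul, neg_neg, hee,
      mul_zero, add_zero] at h
    have h1 : (c - 1) * T e e w = 0 := by linear_combination -h
    rcases mul_eq_zero.mp h1 with h2 | h2
    · exact sub_eq_zero.mp h2
    · exact absurd h2 hw
  have h := hpol e v w
  rw [hAe, hr, hs, hc1] at h
  simp only [map_neg, LinearMap.neg_apply, map_add, map_smul, LinearMap.add_apply,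
    LinearMap.smul_apply, smul_eq_mul, hee] at h
  rw [hT.s23 e v e] at h
  linear_combination -h

/-- uniqueness of the involution. -/
theorem IsInv.eq_refl [CharZero k] [FiniteDimensional k V] (hV : finrank k V = 4)
    {T : V →ₗ[k] V →ₗ[k] V →ₗ[k] k} (hT : IsSym3 T) {m : V →ₗ[k] k} {e : V} (he : e ≠ 0)
    (hee : T e e e = 0) (hsm : ∃ w, T e e w ≠ 0)
    (hm : ∀ u v, T e u v = T e e u * m v + m u * T e e v)
    {A : V →ₗ[k] V} (hA : IsInv T e A) : A = refl m e := by
  have key : ∀ v w r s, A v = v + r • e → A w = w + s • e →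
      (2 * m w + s) * T e e v + (2 * m v + r) * T e e w = 0 := by
    intro v w r s hr hs
    have h := hA.polar hV hT he hee hsm v w r s hr hs
    rw [hm] at h
    linear_combination h
  obtain ⟨w, hw⟩ := hsm
  obtain ⟨s, hs⟩ := hA.exists_smul hV he w
  have hs0 : 2 * m w + s = 0 := by
    have h := key w w s s hs hs
    have h1 : 2 * ((2 * m w + s) * T e e w) = 0 := by linear_combination h
    have h2 := (mul_eq_zero.mp h1).resolve_left two_ne_zero
    exact (mul_eq_zero.mp h2).resolve_right hw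
  ext v
  obtain ⟨r, hr⟩ := hA.exists_smul hV he v
  have h := key v w r s hr hs
  rw [hs0, zero_mul, zero_add] at h
  have h1 := (mul_eq_zero.mp h).resolve_right hw
  rw [hr, refl_apply]
  have h2 : r = -(2 * m v) := by linear_combination h1
  rw [h2]; module

/-- **Existence and uniqueness of the Eckardt involution.** -/
theorem existsUnique_isInv [CharZero k] [FiniteDimensional k V] (hV : finrank k V = 4)
    {T : V →ₗ[k] V →ₗ[k] V →ₗ[k] k} (hT : IsSym3 T) (hsm : Smooth T) {e : V} (he : e ≠ 0)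
    (hE : Eck T e) : ∃! A : V →ₗ[k] V, IsInv T e A := by
  have hee : T e e e = 0 := by
    obtain ⟨U, -, hU⟩ := hE
    exact (hU 0).2.2 e (hU 0).2.1
  obtain ⟨m, hme, hm⟩ := exists_polar_form hV hT he (hsm e he hee) hE
  exact ⟨refl m e, isInv_refl hV hT hee hme hm, fun A hA => hA.eq_refl hV hT he hee
    (hsm e he hee) hm⟩

/-- A binary cubic form without double zeros over an algebraically closed field has three
pairwise non-proportional zeros. -/
theorem exists_three_zeros [CharZero k] [IsAlgClosed k]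
    {T : V →ₗ[k] V →ₗ[k] V →ₗ[k] k} (hT : IsSym3 T) {K : Submodule k V}
    (hK : finrank k ↥K = 2)
    (hns : ∀ u ∈ K, u ≠ 0 → T u u u = 0 → ∃ w ∈ K, T u u w ≠ 0) :
    ∃ u : Fin 3 → V, (∀ i, u i ∈ K ∧ u i ≠ 0 ∧ T (u i) (u i) (u i) = 0) ∧
      ∀ i j, i ≠ j → u j ∉ Submodule.span k {u i} := by
  have h3 : (3 : k) ≠ 0 := by norm_num
  have h2 : (2 : k) ≠ 0 := by norm_num
  -- a first zero
  have hz : ∃ u0 ∈ K, u0 ≠ 0 ∧ T u0 u0 u0 = 0 := by
    have hb : ∃ a ∈ K, a ≠ 0 := by
      by_contra hc
      push Not at hc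
      have : K = ⊥ := by
        rw [Submodule.eq_bot_iff]; exact hc
      rw [this] at hK; simp at hK
    obtain ⟨a, haK, ha⟩ := hb
    obtain ⟨b, hbK, hb, -⟩ := exists_span_pair hK ha haK
    by_cases hbb : T b b b = 0
    · refine ⟨b, hbK, ?_, hbb⟩
      rintro rfl; exact hb (Submodule.zero_mem _)
    · set p : Polynomial k := Polynomial.C (T b b b) * Polynomial.X ^ 3 +
        Polynomial.C (3 * T a b b) * Polynomial.X ^ 2 + Polynomial.C (3 * T a a b) * Polynomial.X
        + Polynomial.C (T a a a) with hp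
      have hdeg : p.degree = 3 := Polynomial.degree_cubic hbb
      obtain ⟨t, ht⟩ := IsAlgClosed.exists_root p (by rw [hdeg]; decide)
      refine ⟨a + t • b, K.add_mem haK (K.smul_mem _ hbK), ?_, ?_⟩
      · intro h0
        by_cases ht0 : t = 0
        · rw [ht0, zero_smul, add_zero] at h0; exact ha h0
        · apply hb
          have : b = (-t⁻¹) • a := by
            have h1 : t • b = -a := by rw [eq_neg_iff_add_eq_zero, add_comm]; exact h0
            rw [neg_smul, ← smul_neg, ← h1, smul_smul, inv_mul_cancel₀ ht0, one_smul]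
          rw [this]; exact Submodule.smul_mem _ _ (Submodule.mem_span_singleton_self a)
      · rw [hT.cube_add_smul]
        have : p.eval t = 0 := ht
        rw [hp] at this
        simp only [Polynomial.eval_add, Polynomial.eval_mul, Polynomial.eval_C,
          Polynomial.eval_pow, Polynomial.eval_X] at this
        linear_combination this
  obtain ⟨u, huK, hu, huu⟩ := hz
  obtain ⟨b, hbK, hb, hKs⟩ := exists_span_pair hK hu huK
  obtain ⟨w, hwK, hw⟩ := hns u huK hu huu
  have hα : T u u b ≠ 0 := by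
    intro h; apply hw
    rw [hKs] at hwK
    obtain ⟨x, y, rfl⟩ := Submodule.mem_span_pair.mp hwK
    rw [map_add, map_smul, map_smul, huu, h]; simp
  obtain ⟨δ, hδ⟩ := IsAlgClosed.exists_pow_nat_eq
    (9 * (T u b b) ^ 2 - 12 * T u u b * T b b b) (n := 2) (by norm_num)
  have hcube : ∀ s : k, T (s • u + b) (s • u + b) (s • u + b) =
      3 * T u u b * s ^ 2 + 3 * T u b b * s + T b b b := by
    intro s
    have := hT.cube_smul_add_smul u b s 1
    rw [one_smul] at this
    rw [this, huu]; ring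
  have hquad : ∀ ε : k, ε ^ 2 = δ ^ 2 → 3 * T u u b * ((-3 * T u b b + ε) / (6 * T u u b)) ^ 2 +
      3 * T u b b * ((-3 * T u b b + ε) / (6 * T u u b)) + T b b b = 0 := by
    intro ε hε
    field_simp
    have : ε ^ 2 = 9 * (T u b b) ^ 2 - 12 * T u u b * T b b b := by rw [hε, hδ]
    linear_combination 3 * this
  have hδ0 : δ ≠ 0 := by
    intro hδ0
    set s := (-3 * T u b b + δ) / (6 * T u u b) with hs
    have hx : T (s • u + b) (s • u + b) (s • u + b) = 0 := by
      rw [hcube]; exact hquad δ rfl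
    have hxK : s • u + b ∈ K := K.add_mem (K.smul_mem _ huK) hbK
    have hx0 : s • u + b ≠ 0 := by
      intro h0; apply hb
      have : b = (-s) • u := by rw [neg_smul]; exact (neg_eq_of_add_eq_zero_right h0).symm
      rw [this]; exact Submodule.smul_mem _ _ (Submodule.mem_span_singleton_self u)
    obtain ⟨w, hwK, hw⟩ := hns _ hxK hx0 hx
    apply hw
    have hxu : T (s • u + b) (s • u + b) u = 0 := by
      have := hT.sq_smul_add_smul u b u s 1
      rw [one_smul] at this
      rw [this, huu, hT.s23 u b u, hT.rot b b u, hT.rot b u b, hs, hδ0]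
      field_simp; ring
    have hxb : T (s • u + b) (s • u + b) b = 0 := by
      rw [map_add, map_smul, hxu, smul_zero, zero_add] at hx; exact hx
    rw [hKs] at hwK
    obtain ⟨x, y, rfl⟩ := Submodule.mem_span_pair.mp hwK
    rw [map_add, map_smul, map_smul, hxu, hxb]; simp
  set s1 := (-3 * T u b b + δ) / (6 * T u u b) with hs1
  set s2 := (-3 * T u b b + -δ) / (6 * T u u b) with hs2
  have hs12 : s1 ≠ s2 := by
    intro h
    rw [hs1, hs2] at h
    field_simp at h
    have : 2 * δ = 0 := by linear_combination h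
    exact hδ0 ((mul_eq_zero.mp this).resolve_left h2)
  have hnot : ∀ s : k, s • u + b ∉ Submodule.span k {u} := by
    intro s h; apply hb
    have h1 := Submodule.sub_mem _ h (Submodule.smul_mem _ s (Submodule.mem_span_singleton_self u))
    rwa [add_sub_cancel_left] at h1
  have hne : ∀ s : k, s • u + b ≠ 0 := fun s h => hnot s (by rw [h]; exact Submodule.zero_mem _)
  have hnot' : ∀ s : k, u ∉ Submodule.span k {s • u + b} := by
    intro s h
    obtain ⟨c, hc⟩ := Submodule.mem_span_singleton.mp h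
    have hc0 : c ≠ 0 := by rintro rfl; rw [zero_smul] at hc; exact hu hc.symm
    apply hnot s
    rw [Submodule.mem_span_singleton]
    exact ⟨c⁻¹, by rw [← hc, smul_smul, inv_mul_cancel₀ hc0, one_smul, hc]⟩
  have hnot2 : ∀ s t : k, s ≠ t → s • u + b ∉ Submodule.span k {t • u + b} := by
    intro s t hst h
    have h1 := Submodule.sub_mem _ h (Submodule.mem_span_singleton_self (t • u + b))
    have h2 : s • u + b - (t • u + b) = (s - t) • u := by module
    rw [h2] at h1
    have h3 := Submodule.smul_mem _ (s - t)⁻¹ h1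
    rw [smul_smul, inv_mul_cancel₀ (sub_ne_zero.mpr hst), one_smul] at h3
    exact hnot' t h3
  refine ⟨![u, s1 • u + b, s2 • u + b], ?_, ?_⟩
  · intro i
    fin_cases i
    · exact ⟨huK, hu, huu⟩
    · exact ⟨K.add_mem (K.smul_mem _ huK) hbK, hne s1, by
        show T (s1 • u + b) (s1 • u + b) (s1 • u + b) = 0
        rw [hcube]; exact hquad δ rfl⟩
    · exact ⟨K.add_mem (K.smul_mem _ huK) hbK, hne s2, by
        show T (s2 • u + b) (s2 • u + b) (s2 • u + b) = 0
        rw [hcube]; exact hquad (-δ) (by ring)⟩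
  · intro i j hij
    fin_cases i <;> fin_cases j
    · exact absurd rfl hij
    · exact hnot s1
    · exact hnot s2
    · exact hnot' s1
    · exact absurd rfl hij
    · exact hnot2 s2 s1 hs12.symm
    · exact hnot' s2
    · exact hnot2 s1 s2 hs12
    · exact absurd rfl hij

end K656.Eckardt
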