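import Groth.Agent.Cubic.K656.Eckardt

set_option autoImplicit false

/-! Eckardt points of a smooth cubic surface: converse and pairs of Eckardt points. -/

namespace K656.Eckardt

open K656.Trilin Module

universe u v

variable {k : Type u} [Field k] {V : Type v} [AddCommGroup V] [Module k V]

theorem IsInv.smul {T : V →ₗ[k] V →ₗ[k] V →ₗ[k] k} {e : V} {A : V →ₗ[k] V}
    (hA : IsInv T e A) (c : k) : IsInv T (c • e) A :=
  ⟨hA.1, hA.2.1, by rw [map_smul, hA.2.2.1, smul_neg], hA.2.2.2⟩

theorem Eck.ne_mem {T : V →ₗ[k] V →ₗ[k] V →ₗ[k] k} {e : V} (hE : Eck T e) : T e e e = 0 := by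
  obtain ⟨U, -, hU⟩ := hE
  exact (hU 0).2.2 e (hU 0).2.1

/-- An isolated fixed point on the surface of an involution is an Eckardt point. -/
theorem IsInv.eck [CharZero k] [IsAlgClosed k] [FiniteDimensional k V] (hV : finrank k V = 4)
    {T : V →ₗ[k] V →ₗ[k] V →ₗ[k] k} (hT : IsSym3 T) (hsm : Smooth T) {p : V} (hp : p ≠ 0)
    (hpp : T p p p = 0) {A : V →ₗ[k] V} (hA : IsInv T p A) : Eck T p := by
  have h2 : (2 : k) ≠ 0 := two_ne_zero
  have hsmp := hsm p hp hpp
  obtain ⟨w0, hw0⟩ := hsmp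
  -- the fixed space
  set H : Submodule k V := LinearMap.ker (A - LinearMap.id) with hH
  have hH3 : finrank k ↥H = 3 := hA.2.1
  have hHA : ∀ v ∈ H, A v = v := fun v hv => by
    rw [hH, LinearMap.mem_ker, LinearMap.sub_apply, LinearMap.id_apply, sub_eq_zero] at hv
    exact hv
  have hHp : ∀ v ∈ H, ∀ w ∈ H, T p v w = 0 := by
    intro v hv w hw
    have h := hA.polar hV hT hp hpp (hsm p hp hpp) v w 0 0 (by rw [hHA v hv]; simp)
      (by rw [hHA w hw]; simp)
    rw [zero_mul, zero_mul, neg_zero, sub_zero] at h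
    exact (mul_eq_zero.mp h).resolve_left h2
  have hpH : p ∉ H := by
    intro h
    have h1 := hHA p h
    rw [hA.2.2.1] at h1
    have h3 : (2 : k) • p = 0 := by
      rw [two_smul]; nth_rewrite 1 [← h1]; exact neg_add_cancel p
    rcases smul_eq_zero.mp h3 with h4 | h4
    · exact h2 h4
    · exact hp h4
  have hdec : ∀ v : V, ∃ h ∈ H, ∃ t : k, v = h + t • p := by
    intro v
    obtain ⟨r, hr⟩ := hA.exists_smul hV hp v
    refine ⟨v + (r / 2) • p, ?_, -(r / 2), by module⟩
    rw [hH, LinearMap.mem_ker, LinearMap.sub_apply, LinearMap.id_apply, map_add, map_smul,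
      hA.2.2.1, hr]
    have : v + r • p + (r / 2) • (-p) - (v + (r / 2) • p) = (r - r / 2 - r / 2) • p := by module
    rw [this]
    have : r - r / 2 - r / 2 = 0 := by ring
    rw [this, zero_smul]
  -- a vector of H not in the kernel of ℓ
  obtain ⟨h0, hh0, t0, hw0'⟩ := hdec w0
  have hh0ℓ : T p p h0 ≠ 0 := by
    intro h; apply hw0
    rw [hw0', map_add, map_smul, h, hpp]; simp
  -- the plane K
  set K : Submodule k V := H ⊓ LinearMap.ker (T p p) with hK
  have hK2 : finrank k ↥K = 2 := by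
    have h1 : finrank k ↥(LinearMap.ker (T p p)) = 3 :=
      mem_ker_finrank hV (fun h => hw0 (by rw [h]; rfl))
    have hlt : H < H ⊔ LinearMap.ker (T p p) := by
      refine lt_of_le_of_ne le_sup_left fun h => hpH ?_
      rw [h]
      exact (le_sup_right : LinearMap.ker (T p p) ≤ _) (by rw [LinearMap.mem_ker]; exact hpp)
    have h3 := Submodule.finrank_lt_finrank_of_lt hlt
    have h4 := Submodule.finrank_sup_add_finrank_inf_eq H (LinearMap.ker (T p p))
    have h5 := Submodule.finrank_le (H ⊔ LinearMap.ker (T p p))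
    rw [hV] at h5
    rw [hH3, h1] at h4
    rw [hH3] at h3
    rw [hK]; omega
  have hKH : ∀ v ∈ K, v ∈ H := fun v hv => (Submodule.mem_inf.mp hv).1
  have hKℓ : ∀ v ∈ K, T p p v = 0 := fun v hv => (Submodule.mem_inf.mp hv).2
  have hns : ∀ u ∈ K, u ≠ 0 → T u u u = 0 → ∃ w ∈ K, T u u w ≠ 0 := by
    intro u hu hu0 huu
    by_contra hc
    push Not at hc
    obtain ⟨t, ht⟩ := IsAlgClosed.exists_pow_nat_eq (-(T u u h0) / T p p h0) (n := 2) (by norm_num)
    have hx0 : u + t • p ≠ 0 := by
      intro h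
      by_cases ht0 : t = 0
      · rw [ht0, zero_smul, add_zero] at h; exact hu0 h
      · apply hpH
        have h1 : p = (-t⁻¹) • u := by
          have h3 : u = -(t • p) := eq_neg_of_add_eq_zero_left h
          rw [h3, neg_smul, smul_neg, neg_neg, smul_smul, inv_mul_cancel₀ ht0, one_smul]
        rw [h1]; exact H.smul_mem _ (hKH u hu)
    have hxw : ∀ w, T (u + t • p) (u + t • p) w = 0 := by
      intro w
      rw [hT.sq_add_smul]
      obtain ⟨h, hh, s, rfl⟩ := hdec w
      -- split h along h0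
      set c := T p p h / T p p h0 with hc'
      have hk : h - c • h0 ∈ K := by
        refine Submodule.mem_inf.mpr ⟨H.sub_mem hh (H.smul_mem _ hh0), ?_⟩
        rw [LinearMap.mem_ker, map_sub, map_smul, hc', smul_eq_mul]; field_simp; ring
      have e1 : T u u h = c * T u u h0 := by
        have := hc _ hk
        rw [map_sub, map_smul, sub_eq_zero] at this
        exact this
      have e2 : T p p h = c * T p p h0 := by rw [hc']; field_simp
      have e3 : T u u p = 0 := by rw [hT.rot' u u p]; exact hHp u (hKH u hu) u (hKH u hu)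
      have e4 : T u p h = 0 := by rw [hT.s12 u p h]; exact hHp u (hKH u hu) h hh
      have e5 : T u p p = 0 := by rw [hT.rot u p p]; exact hKℓ u hu
      simp only [map_add, map_smul, smul_eq_mul]
      rw [e1, e2, e3, e4, e5, hpp, ht]
      field_simp
      ring
    obtain ⟨w, hw⟩ := hsm _ hx0 (hxw _)
    exact hw (hxw w)
  obtain ⟨u, hu, huu⟩ := exists_three_zeros hT hK2 hns
  refine ⟨fun i => Submodule.span k {p, u i}, ?_, ?_⟩
  · intro i j hij
    by_contra hne
    apply huu i j hne
    have h1 : u j ∈ Submodule.span k {p, u i} := by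
      have : Submodule.span k {p, u i} = Submodule.span k {p, u j} := hij
      rw [this]; exact Submodule.subset_span (by simp)
    obtain ⟨a, b, hab⟩ := Submodule.mem_span_pair.mp h1
    have ha : a = 0 := by
      by_contra ha
      apply hpH
      have : p = a⁻¹ • (u j - b • u i) := by
        rw [← hab, add_sub_cancel_right, smul_smul, inv_mul_cancel₀ ha, one_smul]
      rw [this]
      exact H.smul_mem _ (H.sub_mem (hKH _ (hu j).1) (H.smul_mem _ (hKH _ (hu i).1)))
    rw [ha, zero_smul, zero_add] at hab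
    rw [← hab]; exact Submodule.smul_mem _ _ (Submodule.mem_span_singleton_self _)
  · intro i
    have hui : u i ∉ Submodule.span k {p} := by
      intro h
      obtain ⟨c, hc⟩ := Submodule.mem_span_singleton.mp h
      have hc0 : c ≠ 0 := by rintro rfl; rw [zero_smul] at hc; exact (hu i).2.1 hc.symm
      apply hpH
      have : p = c⁻¹ • u i := by rw [← hc, smul_smul, inv_mul_cancel₀ hc0, one_smul]
      rw [this]; exact H.smul_mem _ (hKH _ (hu i).1)
    refine ⟨finrank_span_pair' hp hui, Submodule.subset_span (by simp), ?_⟩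
    intro x hx
    obtain ⟨a, b, rfl⟩ := Submodule.mem_span_pair.mp hx
    rw [hT.cube_smul_add_smul, hpp, hKℓ _ (hu i).1, (hu i).2.2,
      hHp _ (hKH _ (hu i).1) _ (hKH _ (hu i).1)]
    ring

section Pair

variable {T : V →ₗ[k] V →ₗ[k] V →ₗ[k] k}

theorem refl_not_mem [CharZero k] {e e' : V} (he : e ≠ 0) (he' : e' ∉ Submodule.span k {e})
    {m : V →ₗ[k] k} (hm : m e' ≠ 0) : refl m e e' ∉ Submodule.span k {e'} := by
  have h2 : (2 : k) ≠ 0 := two_ne_zero
  intro h
  rw [refl_apply] at h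
  obtain ⟨c, hc⟩ := Submodule.mem_span_singleton.mp h
  have h1 : (1 - c) • e' = (2 * m e') • e := by
    rw [sub_smul, one_smul, hc]; abel
  by_cases hc1 : 1 - c = 0
  · rw [hc1, zero_smul] at h1
    rcases smul_eq_zero.mp h1.symm with h3 | h3
    · exact (mul_ne_zero h2 hm) h3
    · exact he h3
  · apply he'
    rw [Submodule.mem_span_singleton]
    exact ⟨(1 - c)⁻¹ * (2 * m e'), by rw [mul_smul, ← h1, smul_smul, inv_mul_cancel₀ hc1, one_smul]⟩

theorem refl_not_mem' {e e' : V} (he' : e' ∉ Submodule.span k {e})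
    {m : V →ₗ[k] k} : refl m e e' ∉ Submodule.span k {e} := by
  intro h
  rw [refl_apply] at h
  apply he'
  have := Submodule.add_mem _ h (Submodule.smul_mem _ (2 * m e')
    (Submodule.mem_span_singleton_self e))
  rwa [sub_add_cancel] at this

theorem not_mem_symm {e e' : V} (he : e ≠ 0) (he' : e' ∉ Submodule.span k {e}) :
    e' ≠ 0 ∧ e ∉ Submodule.span k {e'} := by
  refine ⟨fun h => he' (by rw [h]; exact Submodule.zero_mem _), fun h => ?_⟩
  obtain ⟨c, hc⟩ := Submodule.mem_span_singleton.mp h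
  have hc0 : c ≠ 0 := by rintro rfl; rw [zero_smul] at hc; exact he hc.symm
  apply he'
  rw [Submodule.mem_span_singleton]
  exact ⟨c⁻¹, by rw [← hc, smul_smul, inv_mul_cancel₀ hc0, one_smul]⟩

/-- Two Eckardt points whose line is not on the surface: `m(e') ≠ 0` and `ℓ(e') ≠ 0`. -/
theorem pair_ne_zero [CharZero k] (hT : IsSym3 T) {e e' : V}
    (hee : T e e e = 0) (hee' : T e' e' e' = 0) {m m' : V →ₗ[k] k}
    (hm : ∀ u v, T e u v = T e e u * m v + m u * T e e v)
    (hm' : ∀ u v, T e' u v = T e' e' u * m' v + m' u * T e' e' v)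
    (hL : ¬ ∀ u ∈ Submodule.span k {e, e'}, T u u u = 0) : m e' ≠ 0 ∧ T e e e' ≠ 0 := by
  have hℓ : T e e e' ≠ 0 := by
    intro h
    apply hL
    intro u hu
    obtain ⟨a, b, rfl⟩ := Submodule.mem_span_pair.mp hu
    rw [hT.cube_smul_add_smul, hee, hee', h, hm e' e', h]; ring
  refine ⟨fun h => hℓ ?_, hℓ⟩
  have h1 : T e' e' e = 0 := by rw [hT.rot' e' e' e, hm e' e', h]; ring
  rw [hT.rot' e e e', hm', h1]; ring

theorem refl_mem {e e' : V} {m : V →ₗ[k] k} : refl m e e' ∈ Submodule.span k {e, e'} := by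
  rw [refl_apply]
  exact Submodule.sub_mem _ (Submodule.subset_span (by simp))
    (Submodule.smul_mem _ _ (Submodule.subset_span (by simp)))

/-- Zeros of the cubic on the line through two Eckardt points. -/
theorem zeros_on_line [CharZero k] (hT : IsSym3 T) {e e' : V}
    (hee : T e e e = 0) (hee' : T e' e' e' = 0) {m : V →ₗ[k] k}
    (hm : ∀ u v, T e u v = T e e u * m v + m u * T e e v) (hℓ : T e e e' ≠ 0)
    {u : V} (hu : u ∈ Submodule.span k {e, e'}) (huu : T u u u = 0) :
    u ∈ Submodule.span k {e} ∨ u ∈ Submodule.span k {e'} ∨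
      u ∈ Submodule.span k {refl m e e'} := by
  have h3 : (3 : k) ≠ 0 := by norm_num
  obtain ⟨a, b, rfl⟩ := Submodule.mem_span_pair.mp hu
  rw [hT.cube_smul_add_smul, hee, hee', hm e' e'] at huu
  have h1 : 3 * (a * (b * (T e e e' * (a + 2 * m e' * b)))) = 0 := by linear_combination huu
  have h2 := (mul_eq_zero.mp h1).resolve_left h3
  rcases mul_eq_zero.mp h2 with ha | h4
  · right; left
    rw [ha, zero_smul, zero_add]
    exact Submodule.smul_mem _ _ (Submodule.mem_span_singleton_self _)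
  rcases mul_eq_zero.mp h4 with hb | h5
  · left
    rw [hb, zero_smul, add_zero]
    exact Submodule.smul_mem _ _ (Submodule.mem_span_singleton_self _)
  · right; right
    have h6 := (mul_eq_zero.mp h5).resolve_left hℓ
    rw [Submodule.mem_span_singleton]
    refine ⟨b, ?_⟩
    rw [refl_apply]
    have : a = -(2 * m e' * b) := by linear_combination h6
    rw [this]; module

/-- The image of an Eckardt point under a linear automorphism of the cubic. -/
theorem Eck.map (A : V →ₗ[k] V) (hAA : ∀ v, A (A v) = v)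
    (hAT : ∀ v, T (A v) (A v) (A v) = T v v v) {e : V} (hE : Eck T e) : Eck T (A e) := by
  obtain ⟨U, hinj, hU⟩ := hE
  have hAinj : Function.Injective A := fun x y hxy => by rw [← hAA x, ← hAA y, hxy]
  refine ⟨fun i => (U i).map A, ?_, ?_⟩
  · intro i j hij
    exact hinj (Submodule.map_injective_of_injective hAinj hij)
  · intro i
    obtain ⟨h1, h2, h3⟩ := hU i
    refine ⟨?_, Submodule.mem_map_of_mem h2, ?_⟩
    · rw [← h1]
      exact (Submodule.equivMapOfInjective A hAinj (U i)).finrank_eq.symm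
    · rintro u ⟨v, hv, rfl⟩
      rw [hAT]; exact h3 v hv

/-- **The line through two Eckardt points.** -/
theorem line_through_two [CharZero k] [FiniteDimensional k V] (hV : finrank k V = 4)
    (hT : IsSym3 T) (hsm : Smooth T) {e e' : V} (he : e ≠ 0) (he' : e' ∉ Submodule.span k {e})
    (hE : Eck T e) (hE' : Eck T e') :
    Xor (∀ u ∈ Submodule.span k {e, e'}, T u u u = 0)
      (∃ e'' : V, e'' ∈ Submodule.span k {e, e'} ∧ e'' ∉ Submodule.span k {e} ∧
        e'' ∉ Submodule.span k {e'} ∧ Eck T e'' ∧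
        ∀ u ∈ Submodule.span k {e, e'}, T u u u = 0 →
          u ∈ Submodule.span k {e} ∨ u ∈ Submodule.span k {e'} ∨ u ∈ Submodule.span k {e''}) := by
  obtain ⟨he'0, hee'⟩ := not_mem_symm he he'
  by_cases hL : ∀ u ∈ Submodule.span k {e, e'}, T u u u = 0
  · left
    refine ⟨hL, ?_⟩
    rintro ⟨e'', -, h1, h2, -, h3⟩
    have key : ∀ t : k, t ≠ 0 → e + t • e' ∈ Submodule.span k {e''} := by
      intro t ht
      have hmem : e + t • e' ∈ Submodule.span k {e, e'} :=
        Submodule.add_mem _ (Submodule.subset_span (by simp))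
          (Submodule.smul_mem _ _ (Submodule.subset_span (by simp)))
      rcases h3 _ hmem (hL _ hmem) with h | h | h
      · exfalso; apply he'
        have h4 := Submodule.sub_mem _ h (Submodule.mem_span_singleton_self e)
        rw [add_sub_cancel_left] at h4
        have h5 := Submodule.smul_mem _ t⁻¹ h4
        rwa [smul_smul, inv_mul_cancel₀ ht, one_smul] at h5
      · exfalso; apply hee'
        have h4 := Submodule.sub_mem _ h
          (Submodule.smul_mem _ t (Submodule.mem_span_singleton_self e'))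
        rwa [add_sub_cancel_right] at h4
      · exact h
    have h4 := Submodule.sub_mem _ (key 2 two_ne_zero) (key 1 one_ne_zero)
    have h5 : e + (2 : k) • e' - (e + (1 : k) • e') = e' := by module
    rw [h5] at h4
    have he''0 : e'' ≠ 0 := by rintro rfl; exact h1 (Submodule.zero_mem _)
    obtain ⟨c, hc⟩ := Submodule.mem_span_singleton.mp h4
    have hc0 : c ≠ 0 := by rintro rfl; rw [zero_smul] at hc; exact he'0 hc.symm
    apply h2
    rw [Submodule.mem_span_singleton]
    exact ⟨c⁻¹, by rw [← hc, smul_smul, inv_mul_cancel₀ hc0, one_smul]⟩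
  · right
    obtain ⟨m, hme, hm⟩ := exists_polar_form hV hT he (hsm e he hE.ne_mem) hE
    obtain ⟨m', hme', hm'⟩ := exists_polar_form hV hT he'0 (hsm e' he'0 hE'.ne_mem) hE'
    obtain ⟨h1, h2⟩ := pair_ne_zero hT hE.ne_mem hE'.ne_mem hm hm' hL
    exact ⟨⟨refl m e e', refl_mem, refl_not_mem' he', refl_not_mem he he' h1,
      hE'.map _ (refl_refl hme) (refl_cube hT hE.ne_mem hm),
      fun u hu huu => zeros_on_line hT hE.ne_mem hE'.ne_mem hm h2 hu huu⟩, hL⟩

/-- Two Eckardt points whose line lies on the surface: `m(e') = 0`. -/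
theorem pair_eq_zero [CharZero k] [IsAlgClosed k] (hT : IsSym3 T) (hsm : Smooth T) {e e' : V}
    (he : e ≠ 0) (he' : e' ∉ Submodule.span k {e}) {m m' : V →ₗ[k] k}
    (hm : ∀ u v, T e u v = T e e u * m v + m u * T e e v)
    (hm' : ∀ u v, T e' u v = T e' e' u * m' v + m' u * T e' e' v)
    (hL : ∀ u ∈ Submodule.span k {e, e'}, T u u u = 0) : m e' = 0 := by
  have hmem : e ∈ Submodule.span k {e, e'} := Submodule.subset_span (by simp)
  have hmem' : e' ∈ Submodule.span k {e, e'} := Submodule.subset_span (by simp)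
  have hz : ∀ u ∈ Submodule.span k {e, e'}, ∀ v ∈ Submodule.span k {e, e'},
      ∀ w ∈ Submodule.span k {e, e'}, T u v w = 0 :=
    fun u hu v hv w hw => hT.eq_zero_of_diag _ hL hu hv hw
  by_contra hme
  have h1 : ∀ v, T e e' v = m e' * T e e v := fun v => by
    rw [hm, hz e hmem e hmem e' hmem']; ring
  have h2 : ∀ v, T e e' v = m' e * T e' e' v := fun v => by
    rw [hT.s12, hm', hz e' hmem' e' hmem' e hmem]; ring
  obtain ⟨w, hw⟩ := hsm e he (hz e hmem e hmem e hmem)
  have hme' : m' e ≠ 0 := by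
    intro h
    have h3 := h1 w
    rw [h2, h, zero_mul] at h3
    exact (mul_ne_zero hme hw) h3.symm
  -- root of 1 + 2 m(e') t + (m(e')/m'(e)) t^2
  obtain ⟨δ, hδ⟩ := IsAlgClosed.exists_pow_nat_eq
    ((2 * m e') ^ 2 - 4 * (m e' / m' e) * 1) (n := 2) (by norm_num)
  have hroot : ∃ t : k, 1 + 2 * m e' * t + (m e' / m' e) * t ^ 2 = 0 := by
    refine ⟨(-(2 * m e') + δ) / (2 * (m e' / m' e)), ?_⟩
    field_simp
    have hδ' : δ ^ 2 * m' e = 4 * m e' ^ 2 * m' e - 4 * m e' := by
      rw [hδ]; field_simp; ring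
    linear_combination hδ'
  obtain ⟨t, ht⟩ := hroot
  have hx0 : e + t • e' ≠ 0 := by
    intro h
    by_cases ht0 : t = 0
    · rw [ht0, zero_smul, add_zero] at h; exact he h
    · apply he'
      rw [Submodule.mem_span_singleton]
      refine ⟨-t⁻¹, ?_⟩
      have h3 : e = -(t • e') := eq_neg_of_add_eq_zero_left h
      rw [h3, neg_smul, smul_neg, neg_neg, smul_smul, inv_mul_cancel₀ ht0, one_smul]
  have hxw : ∀ v, T (e + t • e') (e + t • e') v = 0 := by
    intro v
    rw [hT.sq_add_smul, h1]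
    have h3 : T e' e' v = m e' / m' e * T e e v := by
      have : m' e * T e' e' v = m e' * T e e v := by rw [← h2, h1]
      field_simp; linear_combination this
    rw [h3]
    linear_combination T e e v * ht
  obtain ⟨w, hw⟩ := hsm _ hx0 (hxw _)
  exact hw (hxw w)

/-- **Commuting Eckardt involutions.** -/
theorem commute_of_line [CharZero k] [IsAlgClosed k] [FiniteDimensional k V]
    (hV : finrank k V = 4)
    (hT : IsSym3 T) (hsm : Smooth T) {e e' : V} (he : e ≠ 0) (he' : e' ∉ Submodule.span k {e})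
    (hE : Eck T e) (hE' : Eck T e') (hL : ∀ u ∈ Submodule.span k {e, e'}, T u u u = 0)
    {A A' : V →ₗ[k] V} (hA : IsInv T e A) (hA' : IsInv T e' A') :
    (∀ v, A (A' v) = A' (A v)) ∧ A e' = e' ∧ A' e = e := by
  obtain ⟨he'0, hee'⟩ := not_mem_symm he he'
  obtain ⟨m, hme, hm⟩ := exists_polar_form hV hT he (hsm e he hE.ne_mem) hE
  obtain ⟨m', hme', hm'⟩ := exists_polar_form hV hT he'0 (hsm e' he'0 hE'.ne_mem) hE'
  have h1 : m e' = 0 := pair_eq_zero hT hsm he he' hm hm' hL
  have h2 : m' e = 0 := pair_eq_zero hT hsm he'0 hee' hm' hm (by rwa [Set.pair_comm])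
  have hA1 := hA.eq_refl hV hT he hE.ne_mem (hsm e he hE.ne_mem) hm
  have hA2 := hA'.eq_refl hV hT he'0 hE'.ne_mem (hsm e' he'0 hE'.ne_mem) hm'
  subst hA1 hA2
  have e1 : refl m e e' = e' := by rw [refl_apply, h1]; simp
  have e2 : refl m' e' e = e := by rw [refl_apply, h2]; simp
  refine ⟨fun v => ?_, e1, e2⟩
  rw [refl_apply m' e' v, map_sub, map_smul, e1, refl_apply m e v, map_sub, map_smul, e2,
    refl_apply m' e' v]
  module

/-- conjugation of an involution. -/
theorem IsInv.conj {e e' : V} {A A' : V →ₗ[k] V} (hA : IsInv T e A) (hA' : IsInv T e' A') :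
    IsInv T (A e') (A ∘ₗ A' ∘ₗ A) := by
  refine ⟨fun v => ?_, ?_, ?_, ?_⟩
  · simp only [LinearMap.comp_apply, hA.1, hA'.1]
  · rw [← hA'.2.1]
    have hAinj : Function.Injective A := fun x y hxy => by rw [← hA.1 x, ← hA.1 y, hxy]
    have : LinearMap.ker (A ∘ₗ A' ∘ₗ A - LinearMap.id) =
        (LinearMap.ker (A' - LinearMap.id)).map A := by
      ext v
      rw [Submodule.mem_map]
      constructor
      · intro hv
        rw [LinearMap.mem_ker, LinearMap.sub_apply, LinearMap.id_apply, sub_eq_zero] at hv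
        refine ⟨A v, ?_, hA.1 v⟩
        rw [LinearMap.mem_ker, LinearMap.sub_apply, LinearMap.id_apply, sub_eq_zero]
        have := congrArg A hv
        simp only [LinearMap.comp_apply, hA.1] at this
        exact this
      · rintro ⟨w, hw, rfl⟩
        rw [LinearMap.mem_ker, LinearMap.sub_apply, LinearMap.id_apply, sub_eq_zero] at hw ⊢
        simp only [LinearMap.comp_apply, hA.1, hw]
    rw [this]
    exact (Submodule.equivMapOfInjective A hAinj _).finrank_eq.symm
  · simp only [LinearMap.comp_apply, hA.1, hA'.2.2.1, map_neg]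
  · obtain ⟨c, hc⟩ := hA.2.2.2
    obtain ⟨c', hc'⟩ := hA'.2.2.2
    refine ⟨c * c' * c, fun v => ?_⟩
    simp only [LinearMap.comp_apply, hc, hc']
    ring

/-- **Three collinear Eckardt points.** -/
theorem dihedral [CharZero k] [IsAlgClosed k] [FiniteDimensional k V]
    (hV : finrank k V = 4)
    (hT : IsSym3 T) (hsm : Smooth T) {e e' e'' : V} (he : e ≠ 0) (he' : e' ∉ Submodule.span k {e})
    (he''1 : e'' ∉ Submodule.span k {e}) (he''2 : e'' ∉ Submodule.span k {e'})
    (he''L : e'' ∈ Submodule.span k {e, e'})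
    (hE : Eck T e) (hE' : Eck T e') (hE'' : Eck T e'')
    (hL : ¬ ∀ u ∈ Submodule.span k {e, e'}, T u u u = 0)
    {A A' A'' : V →ₗ[k] V} (hA : IsInv T e A) (hA' : IsInv T e' A') (hA'' : IsInv T e'' A'') :
    (¬ ∃ c : k, ∀ v, A (A' v) = c • v) ∧ A'' = A ∘ₗ A' ∘ₗ A ∧ A'' = A' ∘ₗ A ∘ₗ A' := by
  obtain ⟨he'0, hee'⟩ := not_mem_symm he he'
  have he''0 : e'' ≠ 0 := by rintro rfl; exact he''1 (Submodule.zero_mem _)
  have hL' : ¬ ∀ u ∈ Submodule.span k {e', e}, T u u u = 0 := by rwa [Set.pair_comm]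
  obtain ⟨m, hme, hm⟩ := exists_polar_form hV hT he (hsm e he hE.ne_mem) hE
  obtain ⟨m', hme', hm'⟩ := exists_polar_form hV hT he'0 (hsm e' he'0 hE'.ne_mem) hE'
  obtain ⟨m'', hme'', hm''⟩ := exists_polar_form hV hT he''0 (hsm e'' he''0 hE''.ne_mem) hE''
  obtain ⟨h1, h2⟩ := pair_ne_zero hT hE.ne_mem hE'.ne_mem hm hm' hL
  obtain ⟨h1', h2'⟩ := pair_ne_zero hT hE'.ne_mem hE.ne_mem hm' hm hL'
  have hA1 := hA.eq_refl hV hT he hE.ne_mem (hsm e he hE.ne_mem) hm
  have hA2 := hA'.eq_refl hV hT he'0 hE'.ne_mem (hsm e' he'0 hE'.ne_mem) hm'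
  have hA3 := hA''.eq_refl hV hT he''0 hE''.ne_mem (hsm e'' he''0 hE''.ne_mem) hm''
  have key1 : ∃ c : k, c • A e' = e'' := by
    rcases zeros_on_line hT hE.ne_mem hE'.ne_mem hm h2 he''L hE''.ne_mem with h | h | h
    · exact absurd h he''1
    · exact absurd h he''2
    · rw [hA1]; exact Submodule.mem_span_singleton.mp h
  have key2 : ∃ c : k, c • A' e = e'' := by
    rcases zeros_on_line hT hE'.ne_mem hE.ne_mem hm' h2' (by rwa [Set.pair_comm]) hE''.ne_mem
      with h | h | h
    · exact absurd h he''2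
    · exact absurd h he''1
    · rw [hA2]; exact Submodule.mem_span_singleton.mp h
  refine ⟨?_, ?_, ?_⟩
  · rintro ⟨c, hc⟩
    have h3 := hc e'
    rw [hA'.2.2.1, map_neg] at h3
    apply refl_not_mem he he' h1
    rw [Submodule.mem_span_singleton, ← hA1]
    exact ⟨-c, by rw [neg_smul, ← h3, neg_neg]⟩
  · obtain ⟨c, hc⟩ := key1
    have h3 := (hA.conj hA').smul c
    rw [hc] at h3
    rw [h3.eq_refl hV hT he''0 hE''.ne_mem (hsm e'' he''0 hE''.ne_mem) hm'', ← hA3]
  · obtain ⟨c, hc⟩ := key2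
    have h3 := (hA'.conj hA).smul c
    rw [hc] at h3
    rw [h3.eq_refl hV hT he''0 hE''.ne_mem (hsm e'' he''0 hE''.ne_mem) hm'', ← hA3]

end Pair

end K656.Eckardt
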