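import Mathlib.Analysis.Complex.Polynomial.Basic
import Mathlib.LinearAlgebra.Matrix.Permutation
import Mathlib.RingTheory.RootsOfUnity.Complex
import Mathlib.LinearAlgebra.Matrix.ToLin
import Mathlib.Tactic

set_option autoImplicit false

/-! Linear automorphisms of the members of the Hesse pencil. -/

namespace K656.HesseAut

open Matrix

/-- the form `a (x³ + y³ + z³) + b xyz`. -/
noncomputable def g (a b : ℂ) (v : Fin 3 → ℂ) : ℂ := a * (v 0 ^ 3 + v 1 ^ 3 + v 2 ^ 3) + b * (v 0 * v 1 * v 2)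

/-- the matrix of the polar conic. -/
noncomputable def M (a b : ℂ) (v : Fin 3 → ℂ) : Matrix (Fin 3) (Fin 3) ℂ :=
  !![a * v 0, b / 6 * v 2, b / 6 * v 1; b / 6 * v 2, a * v 1, b / 6 * v 0;
    b / 6 * v 1, b / 6 * v 0, a * v 2]

theorem polar (a b : ℂ) (v x y : Fin 3 → ℂ) : 6 * (x ⬝ᵥ (M a b v) *ᵥ y) =
    g a b (v + x + y) - g a b (v + x) - g a b (v + y) - g a b (x + y)
      + g a b v + g a b x + g a b y := by
  simp only [M, g, Matrix.mulVec, dotProduct, Fin.sum_univ_three, Pi.add_apply, Matrix.of_apply,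
    Matrix.cons_val', Matrix.cons_val_zero, Matrix.cons_val_one, Matrix.cons_val,
    Matrix.cons_val_fin_one]
  ring

theorem det_M (a b : ℂ) (v : Fin 3 → ℂ) :
    (M a b v).det = g (-(a * b ^ 2 / 36)) (a ^ 3 + b ^ 3 / 108) v := by
  rw [Matrix.det_fin_three]
  simp [M, g]
  ring

theorem eq_of_bilin {N N' : Matrix (Fin 3) (Fin 3) ℂ}
    (h : ∀ x y : Fin 3 → ℂ, x ⬝ᵥ N *ᵥ y = x ⬝ᵥ N' *ᵥ y) : N = N' := by
  ext i j
  have := h (Pi.single i 1) (Pi.single j 1)
  simpa using this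

theorem hess_step {A : Matrix (Fin 3) (Fin 3) ℂ} (hA : A.det = 1) {a b c : ℂ}
    (h : ∀ v, g a b (A *ᵥ v) = c * g a b v) (v : Fin 3 → ℂ) :
    g (-(a * b ^ 2 / 36)) (a ^ 3 + b ^ 3 / 108) (A *ᵥ v) =
      c ^ 3 * g (-(a * b ^ 2 / 36)) (a ^ 3 + b ^ 3 / 108) v := by
  have h1 : Aᵀ * M a b (A *ᵥ v) * A = c • M a b v := by
    apply eq_of_bilin
    intro x y
    have e1 : x ⬝ᵥ (Aᵀ * M a b (A *ᵥ v) * A) *ᵥ y = (A *ᵥ x) ⬝ᵥ (M a b (A *ᵥ v)) *ᵥ (A *ᵥ y) := by
      rw [← Matrix.mulVec_mulVec, ← Matrix.mulVec_mulVec, Matrix.dotProduct_mulVec,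
        Matrix.vecMul_transpose]
    have e2 : x ⬝ᵥ (c • M a b v) *ᵥ y = c * (x ⬝ᵥ (M a b v) *ᵥ y) := by
      rw [Matrix.smul_mulVec, dotProduct_smul, smul_eq_mul]
    rw [e1, e2]
    have h6 : (6 : ℂ) ≠ 0 := by norm_num
    apply mul_left_cancel₀ h6
    have e3 : 6 * (c * (x ⬝ᵥ (M a b v) *ᵥ y)) = c * (6 * (x ⬝ᵥ (M a b v) *ᵥ y)) := by ring
    rw [e3, polar, polar]
    simp only [← Matrix.mulVec_add, h]
    ring
  have h2 := congrArg Matrix.det h1
  rw [Matrix.det_mul, Matrix.det_mul, Matrix.det_transpose, hA, Matrix.det_smul, det_M, det_M,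
    Fintype.card_fin, one_mul, mul_one] at h2
  exact h2

/-- The bad parameters. -/
noncomputable def badPoly : Polynomial ℂ :=
  Polynomial.X * (Polynomial.X ^ 3 - 1) * (Polynomial.X ^ 3 + 8) *
    (Polynomial.X ^ 6 - 20 * Polynomial.X ^ 3 - 8)

theorem badPoly_eval (k : ℂ) :
    badPoly.eval k = k * (k ^ 3 - 1) * (k ^ 3 + 8) * (k ^ 6 - 20 * k ^ 3 - 8) := by
  simp [badPoly]

theorem badPoly_ne_zero : badPoly ≠ 0 := by
  intro h
  have := badPoly_eval 2
  rw [h] at this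
  norm_num at this

theorem pencil_scalar {A : Matrix (Fin 3) (Fin 3) ℂ} (hA : A.det = 1) {k c : ℂ}
    (hk : badPoly.eval k ≠ 0) (h0 : ∀ v, g 1 (-(3 * k)) (A *ᵥ v) = c * g 1 (-(3 * k)) v) :
    (∀ v, g 1 0 (A *ᵥ v) = c * g 1 0 v) ∧ ∀ v, g 0 1 (A *ᵥ v) = c * g 0 1 v := by
  rw [badPoly_eval] at hk
  have hk0 : k ≠ 0 := fun h => hk (by rw [h]; ring)
  have hk1 : k ^ 3 - 1 ≠ 0 := fun h => hk (by rw [h]; ring)
  have hk2 : k ^ 3 + 8 ≠ 0 := fun h => hk (by rw [h]; ring)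
  have hk3 : k ^ 6 - 20 * k ^ 3 - 8 ≠ 0 := fun h => hk (by rw [h]; ring)
  have h1 := hess_step hA h0
  set a1 : ℂ := -(1 * (-(3 * k)) ^ 2 / 36) with ha1
  set b1 : ℂ := 1 ^ 3 + (-(3 * k)) ^ 3 / 108 with hb1
  have h2 := hess_step hA h1
  set a2 : ℂ := -(a1 * b1 ^ 2 / 36) with ha2
  set b2 : ℂ := a1 ^ 3 + b1 ^ 3 / 108 with hb2
  set c1 := c ^ 3 with hc1
  set c2 := c1 ^ 3 with hc2
  have hD01 : b1 + 3 * k * a1 ≠ 0 := by
    have : b1 + 3 * k * a1 = -(k ^ 3 - 1) := by rw [hb1, ha1]; ring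
    rw [this]; exact neg_ne_zero.mpr hk1
  have hD02 : b2 + 3 * k * a2 ≠ 0 := by
    have : b2 + 3 * k * a2 = (k ^ 3 - 1) * (k ^ 6 - 20 * k ^ 3 - 8) / 864 := by
      rw [hb2, ha2, hb1, ha1]; ring
    rw [this]
    exact div_ne_zero (mul_ne_zero hk1 hk3) (by norm_num)
  have hD12 : a1 * b2 - a2 * b1 ≠ 0 := by
    have : a1 * b2 - a2 * b1 = k ^ 2 * (k ^ 3 - 1) * (k ^ 3 + 8) ^ 2 / 27648 * 4 := by
      rw [hb2, ha2, hb1, ha1]; ring
    rw [this]
    exact mul_ne_zero (div_ne_zero (mul_ne_zero (mul_ne_zero (pow_ne_zero 2 hk0) hk1)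
      (pow_ne_zero 2 hk2)) (by norm_num)) (by norm_num)
  -- compare coefficients
  clear_value a1 b1 a2 b2 c1 c2
  have key : ∀ v, a2 * ((b1 * c + 3 * k * a1 * c1) * g 1 0 v + 3 * k * b1 * (c1 - c) * g 0 1 v) +
      b2 * (a1 * (c1 - c) * g 1 0 v + (b1 * c1 + 3 * k * a1 * c) * g 0 1 v) =
      c2 * (b1 + 3 * k * a1) * (a2 * g 1 0 v + b2 * g 0 1 v) := by
    intro v
    have e0 := h0 v
    have e1 := h1 v
    have e2 := h2 v
    simp only [g] at e0 e1 e2 ⊢
    linear_combination (b1 + 3 * k * a1) * e2 - (a2 * b1 - a1 * b2) * e0 -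
      (a2 * 3 * k + b2) * e1
  have ks := key ![1, 0, 0]
  have kp := key ![1, 1, 1]
  simp [g] at ks kp
  have hcc : (c1 - c) * ((b2 + 3 * k * a2) * (a1 * b2 - a2 * b1)) = 0 := by
    linear_combination b2 * ks - a2 * (kp - 3 * ks)
  have hc : c1 = c := by
    rcases mul_eq_zero.mp hcc with h | h
    · exact sub_eq_zero.mp h
    · exact absurd h (mul_ne_zero hD02 hD12)
  constructor
  · intro v
    apply mul_left_cancel₀ hD01
    have e0 := h0 v
    have e1 := h1 v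
    rw [hc] at e1
    simp only [g] at e0 e1 ⊢
    linear_combination b1 * e0 + 3 * k * e1
  · intro v
    apply mul_left_cancel₀ hD01
    have e0 := h0 v
    have e1 := h1 v
    rw [hc] at e1
    simp only [g] at e0 e1 ⊢
    linear_combination e1 - a1 * e0

theorem binary_prod {a b c d e f : ℂ}
    (h : ∀ x y : ℂ, (a * x + b * y) * (c * x + d * y) * (e * x + f * y) = 0) :
    (a = 0 ∧ b = 0) ∨ (c = 0 ∧ d = 0) ∨ (e = 0 ∧ f = 0) := by
  have hp : ((Polynomial.C a + Polynomial.C b * Polynomial.X) *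
      (Polynomial.C c + Polynomial.C d * Polynomial.X) *
      (Polynomial.C e + Polynomial.C f * Polynomial.X) : Polynomial ℂ) = 0 := by
    apply Polynomial.funext
    intro t
    have := h 1 t
    simp only [Polynomial.eval_mul, Polynomial.eval_add, Polynomial.eval_C, Polynomial.eval_X,
      Polynomial.eval_zero]
    linear_combination this
  have hz : ∀ a b : ℂ, (Polynomial.C a + Polynomial.C b * Polynomial.X : Polynomial ℂ) = 0 →
      a = 0 ∧ b = 0 := by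
    intro a b h
    have h0 := congrArg (fun p => Polynomial.coeff p 0) h
    have h1 := congrArg (fun p => Polynomial.coeff p 1) h
    simp at h0 h1
    exact ⟨h0, h1⟩
  rcases mul_eq_zero.mp hp with h1 | h1
  · rcases mul_eq_zero.mp h1 with h2 | h2
    · exact Or.inl (hz _ _ h2)
    · exact Or.inr (Or.inl (hz _ _ h2))
  · exact Or.inr (Or.inr (hz _ _ h1))

/-- A matrix preserving `xyz` up to a constant is monomial. -/
theorem exists_perm {A : Matrix (Fin 3) (Fin 3) ℂ} (hA : A.det ≠ 0) {c : ℂ}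
    (h : ∀ v, g 0 1 (A *ᵥ v) = c * g 0 1 v) :
    ∃ π : Equiv.Perm (Fin 3), ∀ i j, j ≠ π i → A i j = 0 := by
  have hcol : ∀ j l : Fin 3, j ≠ l → ∃ i, A i j = 0 ∧ A i l = 0 := by
    intro j l hjl
    have h1 : ∀ x y : ℂ, (A 0 j * x + A 0 l * y) * (A 1 j * x + A 1 l * y) *
        (A 2 j * x + A 2 l * y) = 0 := by
      intro x y
      have h2 := h (Pi.single j x + Pi.single l y)
      have h3 : ∀ i, (A *ᵥ (Pi.single j x + Pi.single l y)) i = A i j * x + A i l * y := by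
        intro i
        rw [Matrix.mulVec_add, Pi.add_apply]
        simp [Matrix.mulVec_single]
      simp only [g, h3] at h2
      have h4 : (Pi.single j x + Pi.single l y : Fin 3 → ℂ) 0 *
          (Pi.single j x + Pi.single l y : Fin 3 → ℂ) 1 *
          (Pi.single j x + Pi.single l y : Fin 3 → ℂ) 2 = 0 := by
        fin_cases j <;> fin_cases l <;> simp
      rw [h4] at h2
      linear_combination h2
    rcases binary_prod h1 with h2 | h2 | h2
    · exact ⟨0, h2⟩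
    · exact ⟨1, h2⟩
    · exact ⟨2, h2⟩
  obtain ⟨i0, h0⟩ := hcol 1 2 (by decide)
  obtain ⟨i1, h1⟩ := hcol 0 2 (by decide)
  obtain ⟨i2, h2⟩ := hcol 0 1 (by decide)
  have hrow : ∀ i, A i 0 = 0 → A i 1 = 0 → A i 2 = 0 → False := by
    intro i e0 e1 e2
    apply hA
    apply Matrix.det_eq_zero_of_row_eq_zero i
    intro j
    fin_cases j
    · exact e0
    · exact e1
    · exact e2
  have h01 : i0 ≠ i1 := fun h => hrow i0 (h ▸ h1.1) h0.1 h0.2
  have h02 : i0 ≠ i2 := fun h => hrow i0 (h ▸ h2.1) h0.1 h0.2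
  have h12 : i1 ≠ i2 := fun h => hrow i1 h1.1 (h ▸ h2.2) h1.2
  have hinj : Function.Injective ![i0, i1, i2] := by
    intro a b hab
    fin_cases a <;> fin_cases b <;> first
      | rfl
      | exact absurd hab h01
      | exact absurd hab h02
      | exact absurd hab h12
      | exact absurd hab h01.symm
      | exact absurd hab h02.symm
      | exact absurd hab h12.symm
  set τ : Equiv.Perm (Fin 3) := Equiv.ofBijective _ (Finite.injective_iff_bijective.mp hinj)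
    with hτ
  refine ⟨τ.symm, fun i j hij => ?_⟩
  obtain ⟨l, rfl⟩ := τ.surjective i
  rw [Equiv.symm_apply_apply] at hij
  have hτl : τ l = ![i0, i1, i2] l := rfl
  rw [hτl]
  fin_cases l <;> fin_cases j <;> first
    | exact absurd rfl hij
    | exact h0.1
    | exact h0.2
    | exact h1.1
    | exact h1.2
    | exact h2.1
    | exact h2.2

/-- monomial matrices -/
noncomputable def mono (π : Equiv.Perm (Fin 3)) (d : Fin 3 → ℂ) : Matrix (Fin 3) (Fin 3) ℂ :=
  Matrix.diagonal d * π.permMatrix ℂ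

theorem mono_apply (π : Equiv.Perm (Fin 3)) (d : Fin 3 → ℂ) (i j : Fin 3) :
    mono π d i j = if π i = j then d i else 0 := by
  simp [mono, Matrix.diagonal_mul, Equiv.Perm.permMatrix, PEquiv.toMatrix_apply,
    Equiv.toPEquiv_apply]

theorem mono_det (π : Equiv.Perm (Fin 3)) (d : Fin 3 → ℂ) :
    (mono π d).det = (d 0 * d 1 * d 2) * (Equiv.Perm.sign π : ℤ) := by
  simp [mono, Matrix.det_mul, Matrix.det_permutation, Fin.prod_univ_three]

theorem mono_mulVec (π : Equiv.Perm (Fin 3)) (d v : Fin 3 → ℂ) (i : Fin 3) :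
    (mono π d *ᵥ v) i = d i * v (π i) := by
  rw [mono, ← Matrix.mulVec_mulVec, Matrix.mulVec_diagonal, Matrix.permMatrix_mulVec]
  rfl

theorem sum_perm (π : Equiv.Perm (Fin 3)) (f : Fin 3 → ℂ) :
    f (π 0) + f (π 1) + f (π 2) = f 0 + f 1 + f 2 := by
  have := Equiv.sum_comp π f
  simpa [Fin.sum_univ_three] using this

theorem prod_perm (π : Equiv.Perm (Fin 3)) (f : Fin 3 → ℂ) :
    f (π 0) * f (π 1) * f (π 2) = f 0 * f 1 * f 2 := by
  have := Equiv.prod_comp π f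
  simpa [Fin.prod_univ_three] using this

/-- sign as a complex number -/
noncomputable def sg (π : Equiv.Perm (Fin 3)) : ℂ := ((Equiv.Perm.sign π : ℤ) : ℂ)

theorem sg_sq (π : Equiv.Perm (Fin 3)) : sg π * sg π = 1 := by
  unfold sg
  rcases Int.units_eq_one_or (Equiv.Perm.sign π) with h | h <;> simp [h]

theorem sg_ne (π : Equiv.Perm (Fin 3)) : sg π ≠ 0 := by
  intro h
  have := sg_sq π
  rw [h] at this
  simp at this

/-- diagonal entries -/
noncomputable def dd (π : Equiv.Perm (Fin 3)) (a b : ℂ) : Fin 3 → ℂ :=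
  ![sg π * a, sg π * b, sg π * (a * b)⁻¹]

theorem dd_mem (k : ℂ) (π : Equiv.Perm (Fin 3)) {a b : ℂ} (ha : a ^ 3 = 1) (hb : b ^ 3 = 1) :
    (mono π (dd π a b)).det = 1 ∧
      ∃ c : ℂ, ∀ v, g 1 (-(3 * k)) (mono π (dd π a b) *ᵥ v) = c * g 1 (-(3 * k)) v := by
  have ha0 : a ≠ 0 := by rintro rfl; simp at ha
  have hb0 : b ≠ 0 := by rintro rfl; simp at hb
  have hab : (a * b)⁻¹ ^ 3 = 1 := by rw [inv_pow, mul_pow, ha, hb]; simp
  have habm : a * b * (a * b)⁻¹ = 1 := mul_inv_cancel₀ (mul_ne_zero ha0 hb0)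
  have hs := sg_sq π
  constructor
  · rw [mono_det]
    have : ((Equiv.Perm.sign π : ℤ) : ℂ) = sg π := rfl
    rw [this]
    have e0 : dd π a b 0 = sg π * a := rfl
    have e1 : dd π a b 1 = sg π * b := rfl
    have e2 : dd π a b 2 = sg π * (a * b)⁻¹ := rfl
    rw [e0, e1, e2]
    linear_combination (sg π ^ 4) * habm + (sg π ^ 2 + 1) * hs
  · refine ⟨sg π, fun v => ?_⟩
    simp only [g, mono_mulVec]
    have e0 : dd π a b 0 = sg π * a := rfl
    have e1 : dd π a b 1 = sg π * b := rfl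
    have e2 : dd π a b 2 = sg π * (a * b)⁻¹ := rfl
    rw [e0, e1, e2]
    have hsum := sum_perm π (fun i => v i ^ 3)
    have hprod := prod_perm π v
    set w := (a * b)⁻¹
    have hs3 : sg π ^ 3 = sg π := by linear_combination sg π * hs
    calc _ = sg π ^ 3 * (a ^ 3 * v (π 0) ^ 3 + b ^ 3 * v (π 1) ^ 3 + w ^ 3 * v (π 2) ^ 3) -
          3 * k * sg π ^ 3 * (a * b * w) * (v (π 0) * v (π 1) * v (π 2)) := by ring
      _ = _ := by
          rw [ha, hb, hab, habm, hs3, hprod]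
          linear_combination sg π * hsum

/-- The parametrization of the automorphisms. -/
noncomputable def F (k : ℂ)
    (x : Equiv.Perm (Fin 3) × rootsOfUnity 3 ℂ × rootsOfUnity 3 ℂ) :
    {A : Matrix (Fin 3) (Fin 3) ℂ // A.det = 1 ∧
      ∃ c : ℂ, ∀ v, g 1 (-(3 * k)) (A *ᵥ v) = c * g 1 (-(3 * k)) v} :=
  ⟨mono x.1 (dd x.1 ((x.2.1 : ℂˣ) : ℂ) ((x.2.2 : ℂˣ) : ℂ)), dd_mem k x.1
    (by have := (mem_rootsOfUnity' 3 _).mp x.2.1.2; exact this)
    (by have := (mem_rootsOfUnity' 3 _).mp x.2.2.2; exact this)⟩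

theorem F_injective (k : ℂ) : Function.Injective (F k) := by
  rintro ⟨π, a, b⟩ ⟨π', a', b'⟩ h
  have h1 : mono π (dd π ((a : ℂˣ) : ℂ) ((b : ℂˣ) : ℂ)) =
    mono π' (dd π' ((a' : ℂˣ) : ℂ) ((b' : ℂˣ) : ℂ)) := congrArg Subtype.val h
  have ha0 : ((a : ℂˣ) : ℂ) ≠ 0 := Units.ne_zero _
  have hb0 : ((b : ℂˣ) : ℂ) ≠ 0 := Units.ne_zero _
  have hd : ∀ i, dd π ((a : ℂˣ) : ℂ) ((b : ℂˣ) : ℂ) i ≠ 0 := by
    intro i
    fin_cases i
    · exact mul_ne_zero (sg_ne π) ha0
    · exact mul_ne_zero (sg_ne π) hb0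
    · exact mul_ne_zero (sg_ne π) (inv_ne_zero (mul_ne_zero ha0 hb0))
  have hππ : π = π' := by
    ext1 i
    have h2 := congrFun (congrFun h1 i) (π i)
    rw [mono_apply, mono_apply, if_pos rfl] at h2
    by_contra hne
    rw [if_neg (fun h => hne h.symm)] at h2
    exact hd i h2
  subst hππ
  have hdd : ∀ i, dd π ((a : ℂˣ) : ℂ) ((b : ℂˣ) : ℂ) i =
      dd π ((a' : ℂˣ) : ℂ) ((b' : ℂˣ) : ℂ) i := by
    intro i
    have h2 := congrFun (congrFun h1 i) (π i)
    rw [mono_apply, mono_apply, if_pos rfl, if_pos rfl] at h2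
    exact h2
  have h0 : sg π * ((a : ℂˣ) : ℂ) = sg π * ((a' : ℂˣ) : ℂ) := hdd 0
  have h1 : sg π * ((b : ℂˣ) : ℂ) = sg π * ((b' : ℂˣ) : ℂ) := hdd 1
  have ea : a = a' := Subtype.ext (Units.ext (mul_left_cancel₀ (sg_ne π) h0))
  have eb : b = b' := Subtype.ext (Units.ext (mul_left_cancel₀ (sg_ne π) h1))
  rw [ea, eb]

theorem F_surjective {k : ℂ} (hk : badPoly.eval k ≠ 0) : Function.Surjective (F k) := by
  rintro ⟨A, hA, c, hc⟩
  obtain ⟨hs, hp⟩ := pencil_scalar hA hk hc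
  obtain ⟨π, hπ⟩ := exists_perm (by rw [hA]; exact one_ne_zero) hp
  set d : Fin 3 → ℂ := fun i => A i (π i) with hd
  have hAm : A = mono π d := by
    ext i j
    rw [mono_apply]
    split_ifs with h
    · rw [hd, ← h]
    · exact hπ i j (fun h' => h h'.symm)
  have hdet : (d 0 * d 1 * d 2) * sg π = 1 := by
    rw [← hA, hAm, mono_det]; rfl
  have hprod : d 0 * d 1 * d 2 = c := by
    have := hp (fun _ => 1)
    rw [hAm] at this
    simp only [g, mono_mulVec] at this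
    linear_combination this
  have hcube : ∀ i, d i ^ 3 = c := by
    intro i
    have := hs (Pi.single (π i) 1)
    rw [hAm] at this
    simp only [g, mono_mulVec] at this
    have e1 : ∀ j : Fin 3, (Pi.single (π i) (1 : ℂ) : Fin 3 → ℂ) (π j) = if j = i then 1 else 0 := by
      intro j
      by_cases h : j = i
      · rw [h]; simp
      · rw [if_neg h, Pi.single_eq_of_ne]
        exact fun h' => h (π.injective h')
    have e2 := sum_perm π (fun j => (Pi.single (π i) (1 : ℂ) : Fin 3 → ℂ) j ^ 3)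
    simp only [e1] at e2 this
    rw [← e2] at this
    fin_cases i <;> simp at this <;> exact this
  have hcs : c * sg π = 1 := by rw [← hprod]; exact hdet
  have hss := sg_sq π
  have hc' : c = sg π := by
    have h1 : c * (sg π * sg π) = sg π := by rw [← mul_assoc, hcs, one_mul]
    rw [hss, mul_one] at h1
    exact h1
  have hs3 : sg π ^ 3 = sg π := by linear_combination sg π * hss
  have hw : ∀ i, (sg π * d i) ^ 3 = 1 := by
    intro i
    rw [mul_pow, hcube, hs3, hc', hss]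
  refine ⟨⟨π, rootsOfUnity.mkOfPowEq (sg π * d 0) (hw 0),
    rootsOfUnity.mkOfPowEq (sg π * d 1) (hw 1)⟩, ?_⟩
  apply Subtype.ext
  show mono π (dd π _ _) = A
  rw [hAm]
  congr 1
  rw [rootsOfUnity.coe_mkOfPowEq, rootsOfUnity.coe_mkOfPowEq]
  have hd0 : d 0 * d 1 * d 2 ≠ 0 := by
    intro h; rw [h, zero_mul] at hdet; exact zero_ne_one hdet
  have hd01 : d 0 * d 1 ≠ 0 := left_ne_zero_of_mul hd0
  funext i
  fin_cases i
  · show sg π * (sg π * d 0) = d 0
    rw [← mul_assoc, hss, one_mul]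
  · show sg π * (sg π * d 1) = d 1
    rw [← mul_assoc, hss, one_mul]
  · show sg π * ((sg π * d 0) * (sg π * d 1))⁻¹ = d 2
    have e1 : (sg π * d 0) * (sg π * d 1) = d 0 * d 1 := by
      linear_combination (d 0 * d 1) * hss
    rw [e1, ← hc', ← hprod, mul_comm (d 0 * d 1) (d 2), mul_assoc, mul_inv_cancel₀ hd01, mul_one]

theorem card_aut {k : ℂ} (hk : badPoly.eval k ≠ 0) :
    Nat.card {A : Matrix (Fin 3) (Fin 3) ℂ // A.det = 1 ∧
      ∃ c : ℂ, ∀ v, g 1 (-(3 * k)) (A *ᵥ v) = c * g 1 (-(3 * k)) v} = 54 := by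
  rw [← Nat.card_congr (Equiv.ofBijective (F k) ⟨F_injective k, F_surjective hk⟩), Nat.card_prod,
    Nat.card_prod, Complex.card_rootsOfUnity, Nat.card_eq_fintype_card, Fintype.card_perm]
  rfl

end K656.HesseAut
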