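import Mathlib.RingTheory.MvPolynomial.Homogeneous
import Mathlib.RingTheory.MvPolynomial.EulerIdentity
import Mathlib.Algebra.MvPolynomial.PDeriv
import Mathlib.Algebra.MvPolynomial.Funext
import Mathlib.LinearAlgebra.Matrix.ToLin
import Mathlib.RingTheory.Derivation.Lie
import Mathlib.Tactic

set_option autoImplicit false

/-! The symmetric trilinear form of a homogeneous cubic polynomial in characteristic zero. -/

namespace K656.Trilin

open MvPolynomial

universe u v

section Abs

variable {k : Type u} [Field k] {V : Type v} [AddCommGroup V] [Module k V]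

/-- A trilinear form is symmetric. -/
structure IsSym3 (T : V →ₗ[k] V →ₗ[k] V →ₗ[k] k) : Prop where
  s12 : ∀ u v w, T u v w = T v u w
  s23 : ∀ u v w, T u v w = T u w v

variable {T : V →ₗ[k] V →ₗ[k] V →ₗ[k] k}

theorem IsSym3.s13 (h : IsSym3 T) (u v w : V) : T u v w = T w v u := by
  rw [h.s12 u v w, h.s23 v u w, h.s12 v w u]

/-- `T u v w = T v w u`. -/
theorem IsSym3.rot (h : IsSym3 T) (u v w : V) : T u v w = T v w u := by
  rw [h.s12 u v w, h.s23 v u w]

/-- `T u v w = T w u v`. -/
theorem IsSym3.rot' (h : IsSym3 T) (u v w : V) : T u v w = T w u v := by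
  rw [h.s23 u v w, h.s12 u w v]

theorem IsSym3.cube_add (h : IsSym3 T) (u v : V) :
    T (u + v) (u + v) (u + v) = T u u u + 3 * T u u v + 3 * T u v v + T v v v := by
  simp only [map_add, LinearMap.add_apply]
  rw [h.s23 u v u, h.rot v u u, h.s12 v u v, h.rot v v u, h.rot v u v]
  ring

theorem IsSym3.cube_add_smul (h : IsSym3 T) (u v : V) (t : k) :
    T (u + t • v) (u + t • v) (u + t • v) =
      T u u u + 3 * t * T u u v + 3 * t ^ 2 * T u v v + t ^ 3 * T v v v := by
  rw [h.cube_add]
  simp only [map_smul, LinearMap.smul_apply, smul_eq_mul]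
  ring

theorem IsSym3.cube_smul_add_smul (h : IsSym3 T) (u v : V) (s t : k) :
    T (s • u + t • v) (s • u + t • v) (s • u + t • v) =
      s ^ 3 * T u u u + 3 * s ^ 2 * t * T u u v + 3 * s * t ^ 2 * T u v v + t ^ 3 * T v v v := by
  rw [h.cube_add]
  simp only [map_smul, LinearMap.smul_apply, smul_eq_mul]
  ring

/-- The square part `T(s u + t v, s u + t v, w)`. -/
theorem IsSym3.sq_smul_add_smul (h : IsSym3 T) (u v w : V) (s t : k) :
    T (s • u + t • v) (s • u + t • v) w =
      s ^ 2 * T u u w + 2 * s * t * T u v w + t ^ 2 * T v v w := by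
  simp only [map_add, map_smul, LinearMap.add_apply, LinearMap.smul_apply, smul_eq_mul]
  rw [h.s12 v u w]
  ring

theorem IsSym3.sq_add_smul (h : IsSym3 T) (u v w : V) (t : k) :
    T (u + t • v) (u + t • v) w =
      T u u w + 2 * t * T u v w + t ^ 2 * T v v w := by
  have := h.sq_smul_add_smul u v w 1 t
  rw [one_smul] at this
  rw [this]; ring

/-- The polarization identity. -/
theorem IsSym3.polar (h : IsSym3 T) (u v w : V) : 6 * T u v w =
      T (u + v + w) (u + v + w) (u + v + w) - T (u + v) (u + v) (u + v)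
        - T (u + w) (u + w) (u + w) - T (v + w) (v + w) (v + w)
        + T u u u + T v v v + T w w w := by
  have e1 := h.cube_add (u + v) w
  have e2 := h.cube_add u v
  have e3 := h.cube_add u w
  have e4 := h.cube_add v w
  have e5 : T (u + v) (u + v) w = T u u w + 2 * T u v w + T v v w := by
    simp only [map_add, LinearMap.add_apply]
    rw [h.s12 v u w]; ring
  have e6 : T (u + v) w w = T u w w + T v w w := by
    simp only [map_add, LinearMap.add_apply]
  rw [e5, e6] at e1
  rw [e1, e3, e4]
  ring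

/-- Polarization: two symmetric trilinear forms with the same diagonal agree. -/
theorem IsSym3.ext_diag [CharZero k] {T' : V →ₗ[k] V →ₗ[k] V →ₗ[k] k} (h : IsSym3 T)
    (h' : IsSym3 T') (hd : ∀ v, T v v v = T' v v v) : T = T' := by
  have h6 : (6 : k) ≠ 0 := by norm_num
  refine LinearMap.ext fun u => LinearMap.ext fun v => LinearMap.ext fun w => ?_
  have : 6 * T u v w = 6 * T' u v w := by
    rw [h.polar, h'.polar]; simp only [hd]
  exact mul_left_cancel₀ h6 this

/-- Polarization of an invariance up to a constant. -/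
theorem IsSym3.polarize [CharZero k] (h : IsSym3 T) {W : Type*} [AddCommGroup W] [Module k W]
    {T' : W →ₗ[k] W →ₗ[k] W →ₗ[k] k} (h' : IsSym3 T')
    (A : W →ₗ[k] V) (c : k) (hA : ∀ v, T (A v) (A v) (A v) = c * T' v v v) (u v w : W) :
    T (A u) (A v) (A w) = c * T' u v w := by
  have h6 : (6 : k) ≠ 0 := by norm_num
  have e : 6 * T (A u) (A v) (A w) = 6 * (c * T' u v w) := by
    have e2 : 6 * (c * T' u v w) = c * (6 * T' u v w) := by ring
    rw [e2, h.polar, h'.polar]
    simp only [← map_add, hA]
    ring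
  exact mul_left_cancel₀ h6 e

/-- If the diagonal vanishes on a submodule then the whole form vanishes on it. -/
theorem IsSym3.eq_zero_of_diag [CharZero k] (h : IsSym3 T) (U : Submodule k V)
    (hU : ∀ u ∈ U, T u u u = 0) {u v w : V} (hu : u ∈ U) (hv : v ∈ U) (hw : w ∈ U) :
    T u v w = 0 := by
  have h6 : (6 : k) ≠ 0 := by norm_num
  have e := h.polar u v w
  rw [hU _ (U.add_mem (U.add_mem hu hv) hw), hU _ (U.add_mem hu hv), hU _ (U.add_mem hu hw),
    hU _ (U.add_mem hv hw), hU _ hu, hU _ hv, hU _ hw] at e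
  have : 6 * T u v w = 0 := by rw [e]; ring
  exact (mul_eq_zero.mp this).resolve_left h6

end Abs

section Poly

variable {k : Type u} [Field k] {n : ℕ}

/-- The third partial derivative (a constant for a homogeneous cubic). -/
noncomputable def coef (f : MvPolynomial (Fin n) k) (i j l : Fin n) : k :=
  eval 0 (pderiv i (pderiv j (pderiv l f)))

theorem pderiv_comm (f : MvPolynomial (Fin n) k) (i j : Fin n) :
    pderiv i (pderiv j f) = pderiv j (pderiv i f) := by
  have h : (⁅(pderiv i : Derivation k (MvPolynomial (Fin n) k) (MvPolynomial (Fin n) k)),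
      (pderiv j : Derivation k (MvPolynomial (Fin n) k) (MvPolynomial (Fin n) k))⁆) = 0 := by
    apply MvPolynomial.derivation_ext
    intro l
    simp only [Derivation.commutator_apply, Derivation.zero_apply, pderiv_X, Pi.single_apply]
    split_ifs <;> simp
  have := congrArg (fun D : Derivation k (MvPolynomial (Fin n) k) (MvPolynomial (Fin n) k) => D f) h
  simp only [Derivation.commutator_apply, Derivation.zero_apply] at this
  exact sub_eq_zero.mp this

theorem coef_s12 (f : MvPolynomial (Fin n) k) (i j l : Fin n) : coef f i j l = coef f j i l := by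
  unfold coef; rw [pderiv_comm]

theorem coef_s23 (f : MvPolynomial (Fin n) k) (i j l : Fin n) : coef f i j l = coef f i l j := by
  unfold coef; rw [pderiv_comm f]

theorem eq_C_of_hom0 {g : MvPolynomial (Fin n) k} (hg : g.IsHomogeneous 0) :
    g = C (eval 0 g) := by
  have h1 : g.totalDegree = 0 := Nat.le_zero.mp hg.totalDegree_le
  rw [totalDegree_eq_zero_iff_eq_C] at h1
  rw [h1]; simp

theorem euler1 {g : MvPolynomial (Fin n) k} (hg : g.IsHomogeneous 1) :
    g = ∑ i, C (eval 0 (pderiv i g)) * X i := by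
  have h := hg.sum_X_mul_pderiv
  rw [one_smul] at h
  conv_lhs => rw [← h]
  refine Finset.sum_congr rfl fun i _ => ?_
  rw [← eq_C_of_hom0 (hg.pderiv (i := i)), mul_comm]

theorem eval_euler1 {g : MvPolynomial (Fin n) k} (hg : g.IsHomogeneous 1) (v : Fin n → k) :
    eval v g = ∑ i, eval 0 (pderiv i g) * v i := by
  conv_lhs => rw [euler1 hg]
  simp

theorem eval_euler {g : MvPolynomial (Fin n) k} {d : ℕ} (hg : g.IsHomogeneous d) (v : Fin n → k) :
    (d : k) * eval v g = ∑ i, v i * eval v (pderiv i g) := by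
  have h := congrArg (eval v) hg.sum_X_mul_pderiv
  simpa using h.symm

theorem eval_pderiv_pderiv {f : MvPolynomial (Fin n) k} (hf : f.IsHomogeneous 3) (v : Fin n → k)
    (j l : Fin n) : eval v (pderiv j (pderiv l f)) = ∑ i, coef f i j l * v i := by
  have h : (pderiv j (pderiv l f)).IsHomogeneous 1 := (hf.pderiv (i := l)).pderiv
  exact eval_euler1 h v

theorem two_eval_pderiv {f : MvPolynomial (Fin n) k} (hf : f.IsHomogeneous 3) (v : Fin n → k)
    (l : Fin n) : 2 * eval v (pderiv l f) = ∑ j, ∑ i, coef f i j l * (v i * v j) := by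
  have h : (pderiv l f).IsHomogeneous 2 := hf.pderiv
  have h2 := eval_euler h v
  push_cast at h2
  rw [h2]
  refine Finset.sum_congr rfl fun j _ => ?_
  rw [eval_pderiv_pderiv hf, Finset.mul_sum]
  exact Finset.sum_congr rfl fun i _ => by ring

theorem six_eval {f : MvPolynomial (Fin n) k} (hf : f.IsHomogeneous 3) (v : Fin n → k) :
    6 * eval v f = ∑ l, ∑ j, ∑ i, coef f i j l * (v i * v j * v l) := by
  have h2 := eval_euler hf v
  push_cast at h2
  have : 6 * eval v f = 2 * (3 * eval v f) := by ring
  rw [this, h2, Finset.mul_sum]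
  refine Finset.sum_congr rfl fun l _ => ?_
  have e : 2 * (v l * eval v (pderiv l f)) = v l * (2 * eval v (pderiv l f)) := by ring
  rw [e, two_eval_pderiv hf, Finset.mul_sum]
  refine Finset.sum_congr rfl fun j _ => ?_
  rw [Finset.mul_sum]
  exact Finset.sum_congr rfl fun i _ => by ring

/-- The symmetric trilinear form of a cubic. -/
noncomputable def tri (f : MvPolynomial (Fin n) k) :
    (Fin n → k) →ₗ[k] (Fin n → k) →ₗ[k] (Fin n → k) →ₗ[k] k :=
  ∑ l, ∑ j, ∑ i, (coef f i j l / 6) • ((LinearMap.proj i : (Fin n → k) →ₗ[k] k).smulRight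
    ((LinearMap.proj j : (Fin n → k) →ₗ[k] k).smulRight
      (LinearMap.proj l : (Fin n → k) →ₗ[k] k)))

theorem tri_apply (f : MvPolynomial (Fin n) k) (u v w : Fin n → k) :
    tri f u v w = ∑ l, ∑ j, ∑ i, coef f i j l / 6 * (u i * v j * w l) := by
  simp only [tri, LinearMap.sum_apply, LinearMap.smul_apply, LinearMap.smulRight_apply,
    LinearMap.proj_apply, smul_eq_mul, mul_assoc]

theorem tri_sym (f : MvPolynomial (Fin n) k) : IsSym3 (tri f) where
  s12 u v w := by
    rw [tri_apply, tri_apply]
    refine Finset.sum_congr rfl fun l _ => ?_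
    rw [Finset.sum_comm]
    refine Finset.sum_congr rfl fun i _ => Finset.sum_congr rfl fun j _ => ?_
    rw [coef_s12]; ring
  s23 u v w := by
    rw [tri_apply, tri_apply, Finset.sum_comm]
    refine Finset.sum_congr rfl fun l _ => Finset.sum_congr rfl fun j _ =>
      Finset.sum_congr rfl fun i _ => ?_
    rw [coef_s23]; ring

theorem tri_diag [CharZero k] {f : MvPolynomial (Fin n) k} (hf : f.IsHomogeneous 3)
    (v : Fin n → k) : tri f v v v = eval v f := by
  have h6 : (6 : k) ≠ 0 := by norm_num
  have h := six_eval hf v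
  apply mul_left_cancel₀ h6
  rw [h, tri_apply, Finset.mul_sum]
  refine Finset.sum_congr rfl fun l _ => ?_
  rw [Finset.mul_sum]
  refine Finset.sum_congr rfl fun j _ => ?_
  rw [Finset.mul_sum]
  refine Finset.sum_congr rfl fun i _ => ?_
  field_simp

theorem tri_pderiv [CharZero k] {f : MvPolynomial (Fin n) k} (hf : f.IsHomogeneous 3)
    (v w : Fin n → k) : 3 * tri f v v w = ∑ l, w l * eval v (pderiv l f) := by
  have h2 : (2 : k) ≠ 0 := by norm_num
  apply mul_left_cancel₀ h2
  rw [tri_apply, Finset.mul_sum, Finset.mul_sum, Finset.mul_sum]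
  refine Finset.sum_congr rfl fun l _ => ?_
  have e : 2 * (w l * eval v (pderiv l f)) = w l * (2 * eval v (pderiv l f)) := by ring
  rw [e, two_eval_pderiv hf, Finset.mul_sum, Finset.mul_sum, Finset.mul_sum]
  refine Finset.sum_congr rfl fun j _ => ?_
  rw [Finset.mul_sum, Finset.mul_sum, Finset.mul_sum]
  refine Finset.sum_congr rfl fun i _ => ?_
  field_simp
  ring

theorem tri_pderiv_single [CharZero k] {f : MvPolynomial (Fin n) k} (hf : f.IsHomogeneous 3)
    (v : Fin n → k) (i : Fin n) : 3 * tri f v v (Pi.single i 1) = eval v (pderiv i f) := by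
  rw [tri_pderiv hf, Finset.sum_eq_single i]
  · simp
  · intro b _ hb; simp [Pi.single_eq_of_ne hb]
  · simp

/-- The Jacobian criterion in terms of the trilinear form. -/
theorem exists_pderiv_ne_zero_iff [CharZero k] {f : MvPolynomial (Fin n) k}
    (hf : f.IsHomogeneous 3) (v : Fin n → k) :
    (∃ i : Fin n, eval v (pderiv i f) ≠ 0) ↔ ∃ w, tri f v v w ≠ 0 := by
  have h3 : (3 : k) ≠ 0 := by norm_num
  constructor
  · rintro ⟨i, hi⟩
    refine ⟨Pi.single i 1, fun h => hi ?_⟩
    rw [← tri_pderiv_single hf, h, mul_zero]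
  · rintro ⟨w, hw⟩
    by_contra hc
    push Not at hc
    apply hw
    have := tri_pderiv hf v w
    rw [Finset.sum_eq_zero (fun l _ => by rw [hc l, mul_zero])] at this
    exact (mul_eq_zero.mp this).resolve_left h3

theorem eval_aeval_linear {m : ℕ} (A : Matrix (Fin n) (Fin m) k) (f : MvPolynomial (Fin n) k)
    (v : Fin m → k) :
    eval v (aeval (fun i : Fin n => ∑ j : Fin m, C (A i j) * X j) f) = eval (A.mulVec v) f := by
  rw [map_aeval]
  have h1 : (eval v).comp (algebraMap k (MvPolynomial (Fin m) k)) = RingHom.id k := by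
    ext a; simp
  rw [h1, coe_eval₂Hom]
  have h2 : (fun i : Fin n => eval v (∑ j : Fin m, C (A i j) * X j)) = A.mulVec v := by
    funext i; simp [Matrix.mulVec, dotProduct]
  rw [h2]; rfl

/-- Linear substitution, evaluated. -/
theorem aeval_linear_eq_iff [Infinite k] {m : ℕ} (A : Matrix (Fin n) (Fin m) k)
    (f : MvPolynomial (Fin n) k) (g : MvPolynomial (Fin m) k) :
    aeval (fun i : Fin n => ∑ j : Fin m, C (A i j) * X j) f = g ↔
      ∀ v, eval (A.mulVec v) f = eval v g := by
  rw [MvPolynomial.funext_iff]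
  simp only [eval_aeval_linear]

theorem aeval_linear_eq_C_mul_iff [Infinite k] (A : Matrix (Fin n) (Fin n) k)
    (f : MvPolynomial (Fin n) k) (c : k) :
    aeval (fun i : Fin n => ∑ j : Fin n, C (A i j) * X j) f = C c * f ↔
      ∀ v, eval (A.mulVec v) f = c * eval v f := by
  rw [aeval_linear_eq_iff]
  simp

end Poly

end K656.Trilin
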