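import Groth.Agent.S18404
import Groth.Agent.Cubic.K656.Trilin
import Mathlib.RingTheory.RootsOfUnity.Complex
import Mathlib.LinearAlgebra.Matrix.Permutation

set_option autoImplicit false

/-! Flexes of a plane cubic in Hesse form: transitivity and faithfulness. -/

namespace K656.HesseFlex

open MvPolynomial K656.Trilin

/-- The Hesse form hypothesis. -/
def HasHesse (f : MvPolynomial (Fin 3) ℂ) : Prop :=
  ∃ (A : Matrix (Fin 3) (Fin 3) ℂ) (k c : ℂ),
    IsUnit A.det ∧ k ^ 3 ≠ 1 ∧ c ≠ 0 ∧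
      aeval (fun i : Fin 3 => ∑ j : Fin 3, C (A i j) * X j) f = C c * HesseCubic.form k

/-- flexes -/
def Flex (f : MvPolynomial (Fin 3) ℂ) (v : Fin 3 → ℂ) : Prop :=
  v ≠ 0 ∧ eval v f = 0 ∧
    ∃ w : Fin 3 → ℂ, LinearIndependent ℂ ![v, w] ∧ ∀ t : ℂ, eval (v + t • w) f = t ^ 3 * eval w f

theorem form_eval (k : ℂ) (u : Fin 3 → ℂ) : eval u (HesseCubic.form k) =
      u 0 ^ 3 + u 1 ^ 3 + u 2 ^ 3 - 3 * k * (u 0 * u 1 * u 2) := by
  simp [HesseCubic.form]

theorem flex_transfer {f g : MvPolynomial (Fin 3) ℂ} {A : Matrix (Fin 3) (Fin 3) ℂ}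
    (hA : IsUnit A.det) {c : ℂ} (hc : c ≠ 0) (h : ∀ v, eval (A.mulVec v) f = c * eval v g)
    (v : Fin 3 → ℂ) : Flex f (A.mulVec v) ↔ Flex g v := by
  have hinj : Function.Injective A.mulVec := Matrix.mulVec_injective_of_isUnit
    ((Matrix.isUnit_iff_isUnit_det A).mpr hA)
  have hlin : ∀ v w : Fin 3 → ℂ, LinearIndependent ℂ ![A.mulVec v, A.mulVec w] ↔
      LinearIndependent ℂ ![v, w] := by
    intro v w
    rw [LinearIndependent.pair_iff, LinearIndependent.pair_iff]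
    have e : ∀ s t : ℂ, s • A.mulVec v + t • A.mulVec w = 0 ↔ s • v + t • w = 0 := by
      intro s t
      rw [← Matrix.mulVec_smul, ← Matrix.mulVec_smul, ← Matrix.mulVec_add]
      constructor
      · intro h
        apply hinj
        rw [h, Matrix.mulVec_zero]
      · intro h
        rw [h, Matrix.mulVec_zero]
    simp only [e]
  have hev : ∀ (v w : Fin 3 → ℂ) (t : ℂ), eval (A.mulVec v + t • A.mulVec w) f =
      c * eval (v + t • w) g := by
    intro v w t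
    rw [← h, Matrix.mulVec_add, Matrix.mulVec_smul]
  unfold Flex
  refine and_congr ?_ (and_congr ?_ ?_)
  · refine not_congr ⟨fun h => hinj (by rw [h, Matrix.mulVec_zero]), fun h => by
      rw [h, Matrix.mulVec_zero]⟩
  · rw [h, mul_eq_zero]
    simp [hc]
  · constructor
    · rintro ⟨w, hw, hw'⟩
      obtain ⟨w, rfl⟩ : ∃ u, A.mulVec u = w := by
        refine ⟨A⁻¹.mulVec w, ?_⟩
        rw [Matrix.mulVec_mulVec, Matrix.mul_nonsing_inv _ hA, Matrix.one_mulVec]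
      refine ⟨w, (hlin v w).mp hw, fun t => ?_⟩
      have := hw' t
      rw [hev, h] at this
      apply mul_left_cancel₀ hc
      linear_combination this
    · rintro ⟨w, hw, hw'⟩
      refine ⟨A.mulVec w, (hlin v w).mpr hw, fun t => ?_⟩
      rw [hev, h, hw']
      ring

theorem flex_form_iff {k : ℂ} (hk : k ^ 3 ≠ 1) (v : Fin 3 → ℂ) :
    Flex (HesseCubic.form k) v ↔ v ≠ 0 ∧
      ∃ γ c : ℂ, γ ^ 3 = 1 ∧ (v = c • ![0, 1, -γ] ∨ v = c • ![-γ, 0, 1] ∨ v = c • ![1, -γ, 0]) := by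
  constructor
  · rintro ⟨h1, h2, h3⟩
    exact ⟨h1, (Groth.Agent.S18404.result k hk v h1 h2).mp h3⟩
  · rintro ⟨h1, h2⟩
    have h3 : eval v (HesseCubic.form k) = 0 := by
      rw [form_eval]
      obtain ⟨γ, c, hγ, h | h | h⟩ := h2 <;> rw [h] <;> simp <;>
        linear_combination -(c ^ 3) * hγ
    exact ⟨h1, h3, (Groth.Agent.S18404.result k hk v h1 h3).mpr h2⟩

/-- A matrix moving `(0,1,-1)` to a given flex. -/
theorem exists_move (k : ℂ) {v : Fin 3 → ℂ} (hv : v ≠ 0)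
    (h : ∃ γ c : ℂ, γ ^ 3 = 1 ∧
      (v = c • ![0, 1, -γ] ∨ v = c • ![-γ, 0, 1] ∨ v = c • ![1, -γ, 0])) :
    ∃ (B : Matrix (Fin 3) (Fin 3) ℂ) (c : ℂ), c ≠ 0 ∧ IsUnit B.det ∧
      (∀ u, eval (B.mulVec u) (HesseCubic.form k) = eval u (HesseCubic.form k)) ∧
      v = c • B.mulVec ![0, 1, -1] := by
  obtain ⟨γ, c, hγ, h⟩ := h
  have hc : c ≠ 0 := by
    rintro rfl
    apply hv
    rcases h with h | h | h <;> rw [h, zero_smul]
  have hγ0 : γ ≠ 0 := by rintro rfl; simp at hγ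
  rcases h with h | h | h
  · refine ⟨!![γ ^ 2, 0, 0; 0, 1, 0; 0, 0, γ], c, hc, ?_, fun u => ?_, ?_⟩
    · rw [Matrix.det_fin_three]
      simp [hγ0]
    · rw [form_eval, form_eval]
      simp [Matrix.mulVec, dotProduct, Fin.sum_univ_three]
      linear_combination ((γ ^ 3 + 1) * u 0 ^ 3 + u 2 ^ 3 - 3 * k * (u 0 * u 1 * u 2)) * hγ
    · rw [h]
      congr 1
      funext i
      fin_cases i <;> simp [Matrix.mulVec, dotProduct, Fin.sum_univ_three]
  · refine ⟨!![0, 0, γ; γ ^ 2, 0, 0; 0, 1, 0], c, hc, ?_, fun u => ?_, ?_⟩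
    · rw [Matrix.det_fin_three]
      simp [hγ0]
    · rw [form_eval, form_eval]
      simp [Matrix.mulVec, dotProduct, Fin.sum_univ_three]
      linear_combination ((γ ^ 3 + 1) * u 0 ^ 3 + u 2 ^ 3 - 3 * k * (u 0 * u 1 * u 2)) * hγ
    · rw [h]
      congr 1
      funext i
      fin_cases i <;> simp [Matrix.mulVec, dotProduct, Fin.sum_univ_three]
  · refine ⟨!![0, 1, 0; 0, 0, γ; γ ^ 2, 0, 0], c, hc, ?_, fun u => ?_, ?_⟩
    · rw [Matrix.det_fin_three]
      simp [hγ0]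
    · rw [form_eval, form_eval]
      simp [Matrix.mulVec, dotProduct, Fin.sum_univ_three]
      linear_combination ((γ ^ 3 + 1) * u 0 ^ 3 + u 2 ^ 3 - 3 * k * (u 0 * u 1 * u 2)) * hγ
    · rw [h]
      congr 1
      funext i
      fin_cases i <;> simp [Matrix.mulVec, dotProduct, Fin.sum_univ_three]

/-- **Transitivity on flexes.** -/
theorem transitive {f : MvPolynomial (Fin 3) ℂ} (hH : HasHesse f) {v v' : Fin 3 → ℂ}
    (hv : Flex f v) (hv' : Flex f v') :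
    ∃ (A : Matrix (Fin 3) (Fin 3) ℂ) (c d : ℂ), IsUnit A.det ∧
      aeval (fun i : Fin 3 => ∑ j : Fin 3, C (A i j) * X j) f = C c * f ∧
      A.mulVec v = d • v' := by
  obtain ⟨A₀, k, c₀, hA₀, hk, hc₀, h⟩ := hH
  rw [aeval_linear_eq_iff] at h
  have h' : ∀ u, eval (A₀.mulVec u) f = c₀ * eval u (HesseCubic.form k) := fun u => by
    rw [h]; simp
  have hinv : ∀ u, A₀.mulVec (A₀⁻¹.mulVec u) = u := fun u => by
    rw [Matrix.mulVec_mulVec, Matrix.mul_nonsing_inv _ hA₀, Matrix.one_mulVec]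
  have hx : Flex (HesseCubic.form k) (A₀⁻¹.mulVec v) := by
    rw [← flex_transfer hA₀ hc₀ h', hinv]; exact hv
  have hx' : Flex (HesseCubic.form k) (A₀⁻¹.mulVec v') := by
    rw [← flex_transfer hA₀ hc₀ h', hinv]; exact hv'
  obtain ⟨hx0, hx1⟩ := (flex_form_iff hk _).mp hx
  obtain ⟨hx0', hx1'⟩ := (flex_form_iff hk _).mp hx'
  obtain ⟨B, b, hb, hB, hB1, hB2⟩ := exists_move k hx0 hx1
  obtain ⟨B', b', hb', hB', hB1', hB2'⟩ := exists_move k hx0' hx1'
  have hBinv : ∀ u, B.mulVec (B⁻¹.mulVec u) = u := fun u => by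
    rw [Matrix.mulVec_mulVec, Matrix.mul_nonsing_inv _ hB, Matrix.one_mulVec]
  have hBinv' : ∀ u, B⁻¹.mulVec (B.mulVec u) = u := fun u => by
    rw [Matrix.mulVec_mulVec, Matrix.nonsing_inv_mul _ hB, Matrix.one_mulVec]
  refine ⟨A₀ * (B' * (B⁻¹ * A₀⁻¹)), 1, b / b', ?_, ?_, ?_⟩
  · rw [Matrix.det_mul, Matrix.det_mul, Matrix.det_mul]
    exact hA₀.mul (hB'.mul ((Matrix.isUnit_nonsing_inv_det B hB).mul
      (Matrix.isUnit_nonsing_inv_det A₀ hA₀)))
  · rw [aeval_linear_eq_C_mul_iff]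
    intro u
    rw [← Matrix.mulVec_mulVec, ← Matrix.mulVec_mulVec, ← Matrix.mulVec_mulVec, h', hB1',
      one_mul]
    have e1 := hB1 (B⁻¹.mulVec (A₀⁻¹.mulVec u))
    rw [hBinv] at e1
    rw [← e1, ← h', hinv]
  · rw [← Matrix.mulVec_mulVec, ← Matrix.mulVec_mulVec, ← Matrix.mulVec_mulVec, hB2,
      Matrix.mulVec_smul, hBinv', Matrix.mulVec_smul]
    have e1 : B'.mulVec ![0, 1, -1] = b'⁻¹ • A₀⁻¹.mulVec v' := by
      rw [hB2', smul_smul, inv_mul_cancel₀ hb', one_smul]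
    rw [e1, smul_smul, Matrix.mulVec_smul, hinv]
    rfl

theorem exists_omega : ∃ ω : ℂ, ω ^ 3 = 1 ∧ ω ≠ 1 ∧ 1 + ω + ω ^ 2 = 0 := by
  have h := Complex.isPrimitiveRoot_exp 3 (by norm_num)
  refine ⟨_, h.pow_eq_one, h.ne_one (by norm_num), ?_⟩
  set ω := Complex.exp (2 * Real.pi * Complex.I / (3 : ℕ))
  have h1 : (ω - 1) * (1 + ω + ω ^ 2) = 0 := by
    have := h.pow_eq_one
    linear_combination this
  rcases mul_eq_zero.mp h1 with h2 | h2
  · exact absurd (sub_eq_zero.mp h2) (h.ne_one (by norm_num))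
  · exact h2

theorem eigen_plane {p q : Fin 3 → ℂ} (hpq : LinearIndependent ℂ ![p, q])
    {B : Matrix (Fin 3) (Fin 3) ℂ}
    (h : ∀ γ : ℂ, γ ^ 3 = 1 → ∃ d : ℂ, B.mulVec (p - γ • q) = d • (p - γ • q)) :
    ∃ d : ℂ, B.mulVec p = d • p ∧ B.mulVec q = d • q := by
  obtain ⟨ω, hω, hω1, hω2⟩ := exists_omega
  obtain ⟨d1, h1⟩ := h 1 (one_pow 3)
  obtain ⟨d2, h2⟩ := h ω hω
  obtain ⟨d3, h3⟩ := h (ω ^ 2) (by rw [← pow_mul, mul_comm, pow_mul, hω, one_pow])
  rw [LinearIndependent.pair_iff] at hpq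
  have e0 : (p - (1 : ℂ) • q) + ω • (p - ω • q) + ω ^ 2 • (p - ω ^ 2 • q) = 0 := by
    have : (p - (1 : ℂ) • q) + ω • (p - ω • q) + ω ^ 2 • (p - ω ^ 2 • q) =
      (1 + ω + ω ^ 2) • p - (1 + ω ^ 2 + ω ^ 4) • q := by module
    rw [this, hω2]
    have h4 : 1 + ω ^ 2 + ω ^ 4 = 0 := by linear_combination hω2 + ω * hω
    rw [h4]; simp
  have e1 := congrArg B.mulVec e0
  rw [Matrix.mulVec_add, Matrix.mulVec_add, Matrix.mulVec_smul, Matrix.mulVec_smul, h1, h2, h3,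
    Matrix.mulVec_zero] at e1
  have e2 : (d1 + ω * d2 + ω ^ 2 * d3) • p + (-(d1 + ω ^ 2 * d2 + ω ^ 4 * d3)) • q = 0 := by
    rw [← e1]; module
  obtain ⟨e3, e4⟩ := hpq _ _ e2
  have hω0 : ω ≠ 0 := by rintro rfl; simp at hω
  have h23 : d2 = d3 := by
    have h5 : ω * (ω - 1) * (d2 - d3) = 0 := by
      linear_combination -e3 - e4 - ω * d3 * hω
    rcases mul_eq_zero.mp h5 with h6 | h6
    · exact absurd h6 (mul_ne_zero hω0 (sub_ne_zero.mpr hω1))
    · exact sub_eq_zero.mp h6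
  have h12 : d1 = d2 := by
    rw [← h23] at e3
    linear_combination e3 - d2 * hω2
  rw [← h12] at h2
  -- p - q and p - ω q
  have hq : B.mulVec q = d1 • q := by
    have h5 : (ω - 1) • q = (p - (1 : ℂ) • q) - (p - ω • q) := by module
    have h6 := congrArg B.mulVec h5
    rw [Matrix.mulVec_smul, Matrix.mulVec_sub, h1, h2, ← smul_sub, ← h5] at h6
    have h7 : (ω - 1) • (B.mulVec q - d1 • q) = 0 := by
      rw [smul_sub, h6]; module
    rcases smul_eq_zero.mp h7 with h8 | h8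
    · exact absurd h8 (sub_ne_zero.mpr hω1)
    · exact sub_eq_zero.mp h8
  refine ⟨d1, ?_, hq⟩
  rw [one_smul, Matrix.mulVec_sub, hq] at h1
  have : B.mulVec p = d1 • (p - q) + d1 • q := by rw [← h1]; module
  rw [this]; module

/-- **Faithfulness on flexes.** -/
theorem faithful {f : MvPolynomial (Fin 3) ℂ} (hH : HasHesse f) {A : Matrix (Fin 3) (Fin 3) ℂ}
    (hfix : ∀ v, Flex f v → ∃ d : ℂ, A.mulVec v = d • v) :
    ∃ c : ℂ, A = c • (1 : Matrix (Fin 3) (Fin 3) ℂ) := by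
  obtain ⟨A₀, k, c₀, hA₀, hk, hc₀, h⟩ := hH
  rw [aeval_linear_eq_iff] at h
  have h' : ∀ u, eval (A₀.mulVec u) f = c₀ * eval u (HesseCubic.form k) := fun u => by
    rw [h]; simp
  have hinv : ∀ u, A₀⁻¹.mulVec (A₀.mulVec u) = u := fun u => by
    rw [Matrix.mulVec_mulVec, Matrix.nonsing_inv_mul _ hA₀, Matrix.one_mulVec]
  set B := A₀⁻¹ * A * A₀ with hB
  have hBf : ∀ u, Flex (HesseCubic.form k) u → ∃ d : ℂ, B.mulVec u = d • u := by
    intro u hu
    obtain ⟨d, hd⟩ := hfix _ ((flex_transfer hA₀ hc₀ h' u).mpr hu)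
    refine ⟨d, ?_⟩
    rw [hB, ← Matrix.mulVec_mulVec, ← Matrix.mulVec_mulVec, hd, Matrix.mulVec_smul, hinv]
  have hli : ∀ i j : Fin 3, i ≠ j →
      LinearIndependent ℂ ![(Pi.single i 1 : Fin 3 → ℂ), Pi.single j 1] := by
    intro i j hij
    rw [LinearIndependent.pair_iff]
    intro s t hst
    have e1 := congrFun hst i
    have e2 := congrFun hst j
    simp [hij, hij.symm] at e1 e2
    exact ⟨e1, e2⟩
  obtain ⟨d, hd1, hd2⟩ := eigen_plane (hli 1 2 (by decide)) (B := B) (fun γ hγ => hBf _ (by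
    rw [flex_form_iff hk]
    refine ⟨fun h => ?_, γ, 1, hγ, Or.inl ?_⟩
    · have := congrFun h 1
      simp at this
    · funext i
      fin_cases i <;> simp))
  obtain ⟨d', hd1', hd2'⟩ := eigen_plane (hli 2 0 (by decide)) (B := B) (fun γ hγ => hBf _ (by
    rw [flex_form_iff hk]
    refine ⟨fun h => ?_, γ, 1, hγ, Or.inr (Or.inl ?_)⟩
    · have := congrFun h 2
      simp at this
    · funext i
      fin_cases i <;> simp))
  have hdd : d' = d := by
    have := congrFun (hd1'.symm.trans hd2) 2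
    simpa using this
  rw [hdd] at hd2'
  have hBd : B = d • (1 : Matrix (Fin 3) (Fin 3) ℂ) := by
    ext i j
    have hj : B.mulVec (Pi.single j 1) = d • (Pi.single j 1 : Fin 3 → ℂ) := by
      fin_cases j
      · exact hd2'
      · exact hd1
      · exact hd2
    have := congrFun hj i
    rw [Matrix.mulVec_single_one] at this
    simp only [Matrix.col_apply, Pi.smul_apply, smul_eq_mul] at this
    rw [this, Matrix.smul_apply, Matrix.one_apply, Pi.single_apply, smul_eq_mul]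
  refine ⟨d, ?_⟩
  have hA : A = A₀ * B * A₀⁻¹ := by
    rw [hB]
    calc A = (A₀ * A₀⁻¹) * A * (A₀ * A₀⁻¹) := by
          rw [Matrix.mul_nonsing_inv _ hA₀, Matrix.one_mul, Matrix.mul_one]
      _ = _ := by simp only [Matrix.mul_assoc]
  rw [hA, hBd, Matrix.mul_smul, Matrix.mul_one, Matrix.smul_mul, Matrix.mul_nonsing_inv _ hA₀]

end K656.HesseFlex
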