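import Groth.Agent.Cubic.K656.Sing

set_option autoImplicit false

/-! A line on a cubic surface (no cone) meeting infinitely many lines of the surface forces
infinitely many singular points. -/

namespace K656.Pencil

open K656.Trilin K656.Eckardt K656.TPoint K656.Sing Module

universe u v

variable {k : Type u} [Field k] {V : Type v} [AddCommGroup V] [Module k V]
variable {T : V →ₗ[k] V →ₗ[k] V →ₗ[k] k}

/-- A basis adapted to a two-dimensional subspace. -/
theorem exists_basis [FiniteDimensional k V] (hV : finrank k V = 4) {Λ : Submodule k V}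
    (hΛ : finrank k ↥Λ = 2) : ∃ B : Basis (Fin 4) k V, B 2 ∈ Λ ∧ B 3 ∈ Λ ∧
      ∀ x ∈ Λ, B.coord 0 x = 0 ∧ B.coord 1 x = 0 := by
  have hΛb : Λ ≠ ⊥ := by
    intro h0; rw [h0, finrank_bot] at hΛ; omega
  obtain ⟨u, hu, hu0⟩ := Submodule.exists_mem_ne_zero_of_ne_bot hΛb
  obtain ⟨u', hu', huu', hΛs⟩ := exists_span_pair hΛ hu0 hu
  have hΛt : Λ ≠ ⊤ := by
    intro h0; rw [h0, finrank_top] at hΛ; omega
  obtain ⟨z, -, hz⟩ := SetLike.exists_of_lt (lt_top_iff_ne_top.mpr hΛt)
  have hΛs' : Λ = Submodule.span k {u', u} := by rw [Set.pair_comm]; exact hΛs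
  have hz' : z ∉ Submodule.span k {u', u} := by rw [← hΛs']; exact hz
  have h3 := finrank_span_triple hu0 huu' hz'
  have h3t : Submodule.span k {z, u', u} ≠ ⊤ := by
    intro h0; rw [h0, finrank_top] at h3; omega
  obtain ⟨w, -, hw⟩ := SetLike.exists_of_lt (lt_top_iff_ne_top.mpr h3t)
  have hli := li4 hu0 huu' hz' hw
  set B := basisOfLinearIndependentOfCardEqFinrank hli (by rw [hV]; rfl) with hB
  have hBi : ∀ i, B i = ![w, z, u', u] i := fun i => by
    rw [hB, coe_basisOfLinearIndependentOfCardEqFinrank]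
  have h2 : B 2 = u' := hBi 2
  have h3 : B 3 = u := hBi 3
  refine ⟨B, by rw [h2]; exact hu', by rw [h3]; exact hu, fun x hx => ?_⟩
  rw [hΛs', ← h2, ← h3] at hx
  obtain ⟨a, b, rfl⟩ := Submodule.mem_span_pair.mp hx
  simp

theorem basis_dec (B : Basis (Fin 4) k V) (x : V) : x = B.coord 0 x • B 0 + B.coord 1 x • B 1 +
    B.coord 2 x • B 2 + B.coord 3 x • B 3 := by
  have := B.sum_repr x
  rw [Fin.sum_univ_four] at this
  exact this.symm

/-- zeros of a nonzero binary cubic form are finite in number. -/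
theorem zeros_finite (hT : IsSym3 T) {M : Submodule k V} (hM : finrank k ↥M = 2)
    {x : V} (hxM : x ∈ M) (hx : T x x x ≠ 0) :
    {W : Submodule k V | finrank k ↥W = 1 ∧ W ≤ M ∧ ∀ w ∈ W, T w w w = 0}.Finite := by
  have hx0 : x ≠ 0 := by rintro rfl; simp at hx
  obtain ⟨p, hpM, hp, hMs⟩ := exists_span_pair hM hx0 hxM
  set f : Polynomial k := Polynomial.C (T x x x) * Polynomial.X ^ 3 +
        Polynomial.C (3 * T x x p) * Polynomial.X ^ 2 + Polynomial.C (3 * T x p p) * Polynomial.X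
        + Polynomial.C (T p p p) with hf
  have hf0 : f ≠ 0 := by
    intro h
    have hdeg : f.degree = 3 := Polynomial.degree_cubic hx
    rw [h, Polynomial.degree_zero] at hdeg
    exact absurd hdeg (by decide)
  refine ((Polynomial.finite_setOfPred_isRoot hf0).image
    (fun t => Submodule.span k {t • x + p})).subset ?_
  rintro W ⟨hW1, hWM, hW0⟩
  obtain ⟨b, hbW, hb0, hWb⟩ := exists_ne_zero_of_finrank_one hW1
  have hbM := hWM hbW
  rw [hMs] at hbM
  obtain ⟨α, β, hαβ⟩ := Submodule.mem_span_pair.mp hbM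
  have hFb := hW0 b hbW
  have hβ : β ≠ 0 := by
    rintro rfl
    rw [zero_smul, add_zero] at hαβ
    rw [← hαβ] at hFb
    simp only [map_smul, LinearMap.smul_apply, smul_eq_mul] at hFb
    have hα : α ≠ 0 := by rintro rfl; rw [zero_smul] at hαβ; exact hb0 hαβ.symm
    exact (mul_ne_zero hα (mul_ne_zero hα (mul_ne_zero hα hx))) hFb
  refine ⟨β⁻¹ * α, ?_, ?_⟩
  · have hb1 : b = β • ((β⁻¹ * α) • x + p) := by
      rw [← hαβ, smul_add, smul_smul, ← mul_assoc, mul_inv_cancel₀ hβ, one_mul]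
    have h1 : T ((β⁻¹ * α) • x + p) ((β⁻¹ * α) • x + p) ((β⁻¹ * α) • x + p) = 0 := by
      rw [hb1] at hFb
      simp only [map_smul, LinearMap.smul_apply, smul_eq_mul] at hFb
      have := (mul_eq_zero.mp hFb).resolve_left hβ
      have := (mul_eq_zero.mp this).resolve_left hβ
      exact (mul_eq_zero.mp this).resolve_left hβ
    have h2 := hT.cube_smul_add_smul x p (β⁻¹ * α) 1
    rw [one_smul, h1] at h2
    show f.eval (β⁻¹ * α) = 0
    rw [hf]
    simp only [Polynomial.eval_add, Polynomial.eval_mul, Polynomial.eval_C,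
          Polynomial.eval_pow, Polynomial.eval_X]
    linear_combination -h2
  · show Submodule.span k {(β⁻¹ * α) • x + p} = W
    have hmem : (β⁻¹ * α) • x + p ∈ W := by
      have : (β⁻¹ * α) • x + p = β⁻¹ • b := by
        rw [← hαβ, smul_add, smul_smul, smul_smul, inv_mul_cancel₀ hβ, one_smul]
      rw [this]; exact W.smul_mem _ hbW
    have hne : (β⁻¹ * α) • x + p ≠ 0 := by
      intro h; apply hp
      have : p = (-(β⁻¹ * α)) • x := by
        rw [neg_smul]; exact (neg_eq_of_add_eq_zero_right h).symm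
      rw [this]; exact Submodule.smul_mem _ _ (Submodule.mem_span_singleton_self x)
    have : FiniteDimensional k ↥W := FiniteDimensional.of_finrank_pos (by omega)
    apply Submodule.eq_of_le_of_finrank_eq
    · rw [Submodule.span_singleton_le_iff_mem]; exact hmem
    · rw [finrank_span_singleton hne, hW1]

/-- A plane contains only finitely many lines of the surface. -/
theorem lines_in_plane_finite [FiniteDimensional k V] (hT : IsSym3 T)
    {P : Submodule k V} (hP : finrank k ↥P = 3) (hN : ∃ x ∈ P, T x x x ≠ 0) :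
    {U : Submodule k V | U ∈ Lines T ∧ U ≤ P}.Finite := by
  obtain ⟨x, hxP, hx⟩ := hN
  have hx0 : x ≠ 0 := by rintro rfl; simp at hx
  -- p, q with P = span {q, p, x}
  have h1 : Submodule.span k {x} < P := by
    refine lt_of_le_of_ne ?_ fun h => ?_
    · rw [Submodule.span_singleton_le_iff_mem]; exact hxP
    · have := finrank_span_singleton (K := k) hx0
      rw [h] at this; omega
  obtain ⟨p, hpP, hp⟩ := SetLike.exists_of_lt h1
  have h2 : Submodule.span k {x, p} < P := by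
    refine lt_of_le_of_ne ?_ fun h => ?_
    · rw [Submodule.span_le]
      intro z hz
      rcases hz with rfl | hz
      · exact hxP
      · rw [Set.mem_singleton_iff] at hz; rw [hz]; exact hpP
    · have := finrank_span_pair' hx0 hp
      rw [h] at this; omega
  obtain ⟨q, hqP, hq⟩ := SetLike.exists_of_lt h2
  have hqx : q ∉ Submodule.span k {x} := fun h =>
    hq (Submodule.span_mono (by simp) h)
  have hM1 := finrank_span_pair' hx0 hp
  have hM2 := finrank_span_pair' hx0 hqx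
  have hM1P : Submodule.span k {x, p} ≤ P := h2.le
  have hM2P : Submodule.span k {x, q} ≤ P := by
    rw [Submodule.span_le]
    intro z hz
    rcases hz with rfl | hz
    · exact hxP
    · rw [Set.mem_singleton_iff] at hz; rw [hz]; exact hqP
  have hx1 : x ∈ Submodule.span k {x, p} := Submodule.subset_span (by simp)
  have hx2 : x ∈ Submodule.span k {x, q} := Submodule.subset_span (by simp)
  have h12 : Submodule.span k {x, p} ⊓ Submodule.span k {x, q} = Submodule.span k {x} := by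
    symm
    apply inf_eq_of_ne hM1
    · intro h
      have := Submodule.eq_of_le_of_finrank_eq h (by rw [hM1, hM2])
      apply hq
      rw [this]
      exact Submodule.subset_span (by simp)
    · exact finrank_span_singleton hx0
    · rw [Submodule.span_singleton_le_iff_mem]; exact hx1
    · rw [Submodule.span_singleton_le_iff_mem]; exact hx2
  have key : ∀ (M : Submodule k V), finrank k ↥M = 2 → M ≤ P → x ∈ M → ∀ U ∈ Lines T, U ≤ P →
      finrank k ↥(U ⊓ M) = 1 := by
    intro M hM hMP hxM U hU hUP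
    have hUM : ¬ M ≤ U := fun h => hx (hU.2 x (h hxM))
    have hlt : U ⊓ M < M := lt_of_le_of_ne inf_le_right fun h => hUM (by
      rw [← h]; exact inf_le_left)
    have h3 := Submodule.finrank_lt_finrank_of_lt hlt
    have h4 := Submodule.finrank_sup_add_finrank_inf_eq U M
    have h5 := Submodule.finrank_mono (sup_le hUP hMP)
    rw [hU.1, hM] at h4
    omega
  refine (((zeros_finite hT hM1 hx1 hx).image2 (fun W W' => W ⊔ W')
    (zeros_finite hT hM2 hx2 hx))).subset ?_
  rintro U ⟨hU, hUP⟩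
  have hW1 := key _ hM1 hM1P hx1 U hU hUP
  have hW2 := key _ hM2 hM2P hx2 U hU hUP
  refine ⟨U ⊓ Submodule.span k {x, p}, ⟨hW1, inf_le_right, fun w hw => hU.2 w hw.1⟩,
    U ⊓ Submodule.span k {x, q}, ⟨hW2, inf_le_right, fun w hw => hU.2 w hw.1⟩, ?_⟩
  show U ⊓ Submodule.span k {x, p} ⊔ U ⊓ Submodule.span k {x, q} = U
  apply Submodule.eq_of_le_of_finrank_le (sup_le inf_le_left inf_le_left)
  rw [hU.1]
  have h6 := Submodule.finrank_sup_add_finrank_inf_eq (U ⊓ Submodule.span k {x, p})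
    (U ⊓ Submodule.span k {x, q})
  have h7 : (U ⊓ Submodule.span k {x, p}) ⊓ (U ⊓ Submodule.span k {x, q}) = ⊥ := by
    rw [Submodule.eq_bot_iff]
    intro z hz
    by_contra hz0
    have hz1 : z ∈ Submodule.span k {x} := by
      rw [← h12]; exact ⟨hz.1.2, hz.2.2⟩
    obtain ⟨c, hc⟩ := Submodule.mem_span_singleton.mp hz1
    have hc0 : c ≠ 0 := by rintro rfl; rw [zero_smul] at hc; exact hz0 hc.symm
    apply hx
    have hxU : x ∈ U := by
      have : x = c⁻¹ • z := by rw [← hc, smul_smul, inv_mul_cancel₀ hc0, one_smul]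
      rw [this]; exact U.smul_mem _ hz.1.1
    exact hU.2 x hxU
  rw [h7, finrank_bot, hW1, hW2] at h6
  omega

/-- symmetric 3×3 matrices with a two-dimensional isotropic subspace -/
theorem det_zero {a b c d e f x0 x1 u0 u1 : k}
    (E1 : a * x0 ^ 2 + 2 * b * x0 * x1 + c * x1 ^ 2 = 0)
    (E2 : (a * x0 + b * x1) * u0 + (b * x0 + c * x1) * u1 + (d * x0 + e * x1) = 0)
    (E3 : a * u0 ^ 2 + 2 * b * u0 * u1 + c * u1 ^ 2 + 2 * d * u0 + 2 * e * u1 + f = 0)
    (hx : x0 ≠ 0 ∨ x1 ≠ 0) :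
    a * c * f + 2 * b * d * e - c * d ^ 2 - a * e ^ 2 - f * b ^ 2 = 0 := by
  rcases hx with hx | hx
  · have : x0 ^ 2 * (a * c * f + 2 * b * d * e - c * d ^ 2 - a * e ^ 2 - f * b ^ 2) = 0 := by
      linear_combination
        ((a * u0 ^ 2 + 2 * b * u0 * u1 + c * u1 ^ 2 + 2 * d * u0 + 2 * e * u1 + f) * c
          - (b * u0 + c * u1 + e) ^ 2) * E1
        + (-((a * x0 + b * x1) * u0 + (b * x0 + c * x1) * u1 + (d * x0 + e * x1)) * c
          + 2 * (b * x0 + c * x1) * (b * u0 + c * u1 + e)) * E2 - (b * x0 + c * x1) ^ 2 * E3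
    exact (mul_eq_zero.mp this).resolve_left (pow_ne_zero 2 hx)
  · have : x1 ^ 2 * (a * c * f + 2 * b * d * e - c * d ^ 2 - a * e ^ 2 - f * b ^ 2) = 0 := by
      linear_combination
        ((a * u0 ^ 2 + 2 * b * u0 * u1 + c * u1 ^ 2 + 2 * d * u0 + 2 * e * u1 + f) * a
          - (a * u0 + b * u1 + d) ^ 2) * E1
        + (-((a * x0 + b * x1) * u0 + (b * x0 + c * x1) * u1 + (d * x0 + e * x1)) * a
          + 2 * (a * x0 + b * x1) * (a * u0 + b * u1 + d)) * E2 - (a * x0 + b * x1) ^ 2 * E3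
    exact (mul_eq_zero.mp this).resolve_left (pow_ne_zero 2 hx)

/-- parameters of planes containing a further line -/
def badSet (T : V →ₗ[k] V →ₗ[k] V →ₗ[k] k) (B : Basis (Fin 4) k V) (Λ : Submodule k V) : Set k :=
  {μ | ∃ U ∈ Lines T, U ≠ Λ ∧ U ≤ Λ ⊔ Submodule.span k {B 0 + μ • B 1}}

theorem finrank_plane [FiniteDimensional k V] {Λ : Submodule k V} (hΛ : finrank k ↥Λ = 2) {w : V}
    (hw : w ∉ Λ) : finrank k ↥(Λ ⊔ Submodule.span k {w}) = 3 := by
  have hw0 : w ≠ 0 := fun h => hw (by rw [h]; exact Λ.zero_mem)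
  have h4 := Submodule.finrank_sup_add_finrank_inf_eq Λ (Submodule.span k {w})
  have h7 : Λ ⊓ Submodule.span k {w} = ⊥ := by
    rw [Submodule.eq_bot_iff]
    intro z hz
    obtain ⟨c, hc⟩ := Submodule.mem_span_singleton.mp hz.2
    by_contra hz0
    have hc0 : c ≠ 0 := by rintro rfl; rw [zero_smul] at hc; exact hz0 hc.symm
    apply hw
    have : w = c⁻¹ • z := by rw [← hc, smul_smul, inv_mul_cancel₀ hc0, one_smul]
    rw [this]; exact Λ.smul_mem _ hz.1
  rw [h7, finrank_bot, hΛ, finrank_span_singleton hw0] at h4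
  omega

theorem badSet_infinite [FiniteDimensional k V] (hT : IsSym3 T) (hN : NoPlane T)
    {Λ : Submodule k V} (hΛ : Λ ∈ Lines T) {B : Basis (Fin 4) k V}
    (hB2 : B 2 ∈ Λ) (hB3 : B 3 ∈ Λ) (hB : ∀ x ∈ Λ, B.coord 0 x = 0 ∧ B.coord 1 x = 0)
    (hinf : {U : Submodule k V | U ∈ Lines T ∧ U ≠ Λ ∧ U ⊓ Λ ≠ ⊥}.Infinite) :
    (badSet T B Λ).Infinite := by
  intro hfin
  apply hinf
  have hne : ∀ μ : k, B 0 + μ • B 1 ∉ Λ := by
    intro μ h
    have := (hB _ h).1
    simp at this
  have hne' : B 1 ∉ Λ := by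
    intro h
    have := (hB _ h).2
    simp at this
  have hf1 : ∀ w : V, w ∉ Λ → {U : Submodule k V | U ∈ Lines T ∧
      U ≤ Λ ⊔ Submodule.span k {w}}.Finite := by
    intro w hw
    have h3 := finrank_plane hΛ.1 hw
    exact lines_in_plane_finite hT h3 (hN _ h3)
  refine ((hfin.biUnion (t := fun μ => {U : Submodule k V | U ∈ Lines T ∧
    U ≤ Λ ⊔ Submodule.span k {B 0 + μ • B 1}}) fun μ _ => hf1 _ (hne μ)).union
      (hf1 _ hne')).subset ?_
  rintro U ⟨hU, hUΛ, hUb⟩
  obtain ⟨x, hx, hx0⟩ := Submodule.exists_mem_ne_zero_of_ne_bot hUb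
  obtain ⟨hxU, hxΛ⟩ := Submodule.mem_inf.mp hx
  have hnle : ¬ U ≤ Λ := fun h => hUΛ (Submodule.eq_of_le_of_finrank_eq h (by rw [hU.1, hΛ.1]))
  obtain ⟨u, huU, huΛ⟩ := SetLike.not_le_iff_exists.mp hnle
  have hux : u ∉ Submodule.span k {x} := by
    intro h
    obtain ⟨c, hc⟩ := Submodule.mem_span_singleton.mp h
    apply huΛ; rw [← hc]; exact Λ.smul_mem _ hxΛ
  have hUs := eq_span_pair hU.1 hx0 hxU huU hux
  have hUle : ∀ P : Submodule k V, Λ ≤ P → u ∈ P → U ≤ P := by
    intro P hP hu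
    rw [hUs, Submodule.span_le]
    intro z hz
    rcases hz with rfl | hz
    · exact hP hxΛ
    · rw [Set.mem_singleton_iff] at hz; rw [hz]; exact hu
  have hdec := basis_dec B u
  have hΛmem : B.coord 2 u • B 2 + B.coord 3 u • B 3 ∈ Λ :=
    Λ.add_mem (Λ.smul_mem _ hB2) (Λ.smul_mem _ hB3)
  by_cases h0 : B.coord 0 u = 0
  · right
    refine ⟨hU, hUle _ le_sup_left ?_⟩
    rw [h0, zero_smul, zero_add, add_assoc] at hdec
    rw [hdec, add_comm]
    exact Submodule.add_mem_sup hΛmem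
      (Submodule.smul_mem _ _ (Submodule.mem_span_singleton_self _))
  · left
    obtain ⟨μ, hμ⟩ : ∃ μ, μ = (B.coord 0 u)⁻¹ * B.coord 1 u := ⟨_, rfl⟩
    have hmem : U ≤ Λ ⊔ Submodule.span k {B 0 + μ • B 1} := by
      apply hUle _ le_sup_left
      have h1 : u = (B.coord 2 u • B 2 + B.coord 3 u • B 3) +
          B.coord 0 u • (B 0 + μ • B 1) := by
        rw [smul_add, smul_smul, hμ, ← mul_assoc, mul_inv_cancel₀ h0, one_mul]
        conv_lhs => rw [hdec]
        abel
      have h2 := Submodule.add_mem_sup (T := Submodule.span k {B 0 + μ • B 1}) hΛmem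
        (Submodule.smul_mem _ (B.coord 0 u) (Submodule.mem_span_singleton_self _))
      rw [← h1] at h2
      exact h2
    exact Set.mem_biUnion (x := μ) ⟨U, hU, hUΛ, hmem⟩ ⟨hU, hmem⟩

/-- In a bad plane there are `x ∈ Λ` nonzero and `y ∈ Λ` with `⟨x, y + w⟩` on the surface. -/
theorem exists_of_badSet [FiniteDimensional k V] 
    {Λ : Submodule k V} (hΛ : Λ ∈ Lines T) {w : V} (hw : w ∉ Λ)
    {U : Submodule k V} (hU : U ∈ Lines T) (hUΛ : U ≠ Λ)
    (hUP : U ≤ Λ ⊔ Submodule.span k {w}) :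
    ∃ x ∈ Λ, x ≠ 0 ∧ x ∈ U ∧ ∃ y ∈ Λ, y + w ∈ U := by
  have h3 := finrank_plane hΛ.1 hw
  have h4 := Submodule.finrank_sup_add_finrank_inf_eq U Λ
  have h5 := Submodule.finrank_mono (sup_le hUP le_sup_left)
  rw [hU.1, hΛ.1] at h4
  have h6 : U ⊓ Λ ≠ ⊥ := by
    intro h7; rw [h7, finrank_bot] at h4; omega
  obtain ⟨x, hx, hx0⟩ := Submodule.exists_mem_ne_zero_of_ne_bot h6
  obtain ⟨hxU, hxΛ⟩ := Submodule.mem_inf.mp hx
  refine ⟨x, hxΛ, hx0, hxU, ?_⟩
  have hnle : ¬ U ≤ Λ := fun h => hUΛ (Submodule.eq_of_le_of_finrank_eq h (by rw [hU.1, hΛ.1]))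
  obtain ⟨u, huU, huΛ⟩ := SetLike.not_le_iff_exists.mp hnle
  obtain ⟨y, hy, z, hz, rfl⟩ := Submodule.mem_sup.mp (hUP huU)
  obtain ⟨c, rfl⟩ := Submodule.mem_span_singleton.mp hz
  have hc : c ≠ 0 := by
    rintro rfl; apply huΛ; rw [zero_smul, add_zero]; exact hy
  refine ⟨c⁻¹ • y, Λ.smul_mem _ hy, ?_⟩
  have : c⁻¹ • y + w = c⁻¹ • (y + c • w) := by
    rw [smul_add, smul_smul, inv_mul_cancel₀ hc, one_smul]
  rw [this]; exact U.smul_mem _ huU

section Poly

open Polynomial

/-- polynomial trilinear expression -/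
noncomputable def pt (T : V →ₗ[k] V →ₗ[k] V →ₗ[k] k) (B : Basis (Fin 4) k V)
    (P Q R : Fin 4 → k[X]) : k[X] :=
  ∑ i, ∑ j, ∑ l, C (T (B i) (B j) (B l)) * (P i * Q j * R l)

/-- evaluation of a polynomial vector -/
noncomputable def ev (B : Basis (Fin 4) k V) (P : Fin 4 → k[X]) (μ : k) : V :=
  ∑ i, (P i).eval μ • B i

theorem pt_eval (B : Basis (Fin 4) k V) (P Q R : Fin 4 → k[X]) (μ : k) :
    (pt T B P Q R).eval μ = T (ev B P μ) (ev B Q μ) (ev B R μ) := by
  simp only [pt, ev, eval_finsetSum, eval_mul, eval_C, map_sum, LinearMap.sum_apply, map_smul,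
    LinearMap.smul_apply, smul_eq_mul, Finset.mul_sum]
  rw [Finset.sum_comm]
  have h1 : ∀ j : Fin 4, (∑ i, ∑ l, T (B i) (B j) (B l) *
      (eval μ (P i) * eval μ (Q j) * eval μ (R l))) =
      ∑ l, ∑ i, T (B i) (B j) (B l) * (eval μ (P i) * eval μ (Q j) * eval μ (R l)) :=
    fun j => Finset.sum_comm
  rw [Finset.sum_congr rfl fun j _ => h1 j, Finset.sum_comm]
  refine Finset.sum_congr rfl fun l _ => Finset.sum_congr rfl fun j _ =>
    Finset.sum_congr rfl fun i _ => ?_
  ring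

theorem pt_derivative (B : Basis (Fin 4) k V) (P Q R : Fin 4 → k[X]) :
    derivative (pt T B P Q R) = pt T B (fun i => derivative (P i)) Q R +
      pt T B P (fun i => derivative (Q i)) R + pt T B P Q (fun i => derivative (R i)) := by
  simp only [pt, derivative_sum, ← Finset.sum_add_distrib]
  refine Finset.sum_congr rfl fun i _ => Finset.sum_congr rfl fun j _ =>
    Finset.sum_congr rfl fun l _ => ?_
  simp only [derivative_mul, derivative_C]
  ring

theorem ev_apply (B : Basis (Fin 4) k V) (P : Fin 4 → k[X]) (μ : k) :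
    ev B P μ = (P 0).eval μ • B 0 + (P 1).eval μ • B 1 + (P 2).eval μ • B 2 +
      (P 3).eval μ • B 3 := by
  rw [ev, Fin.sum_univ_four]

/-- derivative of an identity. -/
theorem deriv_identity [Infinite k] (B : Basis (Fin 4) k V) (P Q R : Fin 4 → k[X])
    (h : ∀ μ, T (ev B P μ) (ev B Q μ) (ev B R μ) = 0) (μ : k) :
    T (ev B (fun i => derivative (P i)) μ) (ev B Q μ) (ev B R μ) +
      T (ev B P μ) (ev B (fun i => derivative (Q i)) μ) (ev B R μ) +
      T (ev B P μ) (ev B Q μ) (ev B (fun i => derivative (R i)) μ) = 0 := by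
  have h0 : pt T B P Q R = 0 := by
    apply Polynomial.funext
    intro μ
    rw [pt_eval, h, eval_zero]
  have h1 := pt_derivative (T := T) B P Q R
  rw [h0, derivative_zero] at h1
  have h2 := congrArg (eval μ) h1
  rw [eval_add, eval_add, pt_eval, pt_eval, pt_eval, eval_zero] at h2
  exact h2.symm

end Poly

end K656.Pencil
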