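import Groth.Agent.Cubic.K656.Pencil
import Mathlib.LinearAlgebra.Matrix.ToLinearEquiv

set_option autoImplicit false

/-! The pencil lemma. -/

namespace K656.Pencil

open K656.Trilin K656.Eckardt K656.TPoint K656.Sing Module Polynomial

universe u v

variable {k : Type u} [Field k] {V : Type v} [AddCommGroup V] [Module k V]
variable {T : V →ₗ[k] V →ₗ[k] V →ₗ[k] k}

/-- existence of the vertex curve -/
theorem exists_vertex [CharZero k] [FiniteDimensional k V]
    (hT : IsSym3 T) (hN : NoPlane T) {Λ : Submodule k V} (hΛ : Λ ∈ Lines T)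
    {B : Basis (Fin 4) k V}
    (hB2 : B 2 ∈ Λ) (hB3 : B 3 ∈ Λ) (hB : ∀ x ∈ Λ, B.coord 0 x = 0 ∧ B.coord 1 x = 0)
    (hinf : {U : Submodule k V | U ∈ Lines T ∧ U ≠ Λ ∧ U ⊓ Λ ≠ ⊥}.Infinite) :
    ∃ z : Fin 3 → k[X], z ≠ 0 ∧ ∀ μ : k,
      (∀ i : Fin 4, i = 2 ∨ i = 3 →
        2 * T (B i) ((z 0).eval μ • B 2 + (z 1).eval μ • B 3) (B 0 + μ • B 1) +
        (z 2).eval μ * T (B i) (B 0 + μ • B 1) (B 0 + μ • B 1) = 0) ∧
      3 * T ((z 0).eval μ • B 2 + (z 1).eval μ • B 3) (B 0 + μ • B 1) (B 0 + μ • B 1) +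
        2 * (z 2).eval μ * T (B 0 + μ • B 1) (B 0 + μ • B 1) (B 0 + μ • B 1) = 0 := by
  have hΛ0 : ∀ x ∈ Λ, ∀ y ∈ Λ, ∀ z ∈ Λ, T x y z = 0 := fun x hx y hy z hz =>
    hT.eq_zero_of_diag Λ hΛ.2 hx hy hz
  set W : Fin 4 → k[X] := ![1, X, 0, 0] with hW
  set E2 : Fin 4 → k[X] := ![0, 0, 1, 0] with hE2
  set E3 : Fin 4 → k[X] := ![0, 0, 0, 1] with hE3
  have evW : ∀ μ, ev B W μ = B 0 + μ • B 1 := fun μ => by rw [ev_apply]; simp [hW]
  have evE2 : ∀ μ, ev B E2 μ = B 2 := fun μ => by rw [ev_apply]; simp [hE2]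
  have evE3 : ∀ μ, ev B E3 μ = B 3 := fun μ => by rw [ev_apply]; simp [hE3]
  set a := 6 * pt T B E2 E2 W with ha
  set b := 6 * pt T B E2 E3 W with hb
  set c := 6 * pt T B E3 E3 W with hc
  set d := 3 * pt T B E2 W W with hd
  set e := 3 * pt T B E3 W W with he
  set f := 2 * pt T B W W W with hf
  have ea : ∀ μ, a.eval μ = 6 * T (B 2) (B 2) (B 0 + μ • B 1) := fun μ => by
    rw [ha, eval_mul, pt_eval, evE2, evW]; simp
  have eb : ∀ μ, b.eval μ = 6 * T (B 2) (B 3) (B 0 + μ • B 1) := fun μ => by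
    rw [hb, eval_mul, pt_eval, evE2, evE3, evW]; simp
  have ec : ∀ μ, c.eval μ = 6 * T (B 3) (B 3) (B 0 + μ • B 1) := fun μ => by
    rw [hc, eval_mul, pt_eval, evE3, evW]; simp
  have ed : ∀ μ, d.eval μ = 3 * T (B 2) (B 0 + μ • B 1) (B 0 + μ • B 1) := fun μ => by
    rw [hd, eval_mul, pt_eval, evE2, evW]; simp
  have ee : ∀ μ, e.eval μ = 3 * T (B 3) (B 0 + μ • B 1) (B 0 + μ • B 1) := fun μ => by
    rw [he, eval_mul, pt_eval, evE3, evW]; simp
  have ef : ∀ μ, f.eval μ = 2 * T (B 0 + μ • B 1) (B 0 + μ • B 1) (B 0 + μ • B 1) := fun μ => by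
    rw [hf, eval_mul, pt_eval, evW]; simp
  set M : Matrix (Fin 3) (Fin 3) k[X] := !![a, b, d; b, c, e; d, e, f] with hM
  have hdet : M.det = a * c * f + 2 * b * d * e - c * d ^ 2 - a * e ^ 2 - f * b ^ 2 := by
    rw [Matrix.det_fin_three]; simp [hM]; ring
  have hdet0 : M.det = 0 := by
    rw [hdet]
    apply Polynomial.eq_zero_of_infinite_isRoot
    refine (badSet_infinite hT hN hΛ hB2 hB3 hB hinf).mono ?_
    rintro μ ⟨U, hU, hUΛ, hUP⟩
    have hw : B 0 + μ • B 1 ∉ Λ := by
      intro h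
      have := (hB _ h).1
      simp at this
    obtain ⟨x, hx, hx0, hxU, y, hy, hyU⟩ := exists_of_badSet hΛ hw hU hUΛ hUP
    show (a * c * f + 2 * b * d * e - c * d ^ 2 - a * e ^ 2 - f * b ^ 2).eval μ = 0
    simp only [eval_sub, eval_add, eval_mul, eval_pow, ea, eb, ec, ed, ee, ef]
    have hxd := basis_dec B x
    rw [(hB x hx).1, (hB x hx).2, zero_smul, zero_smul, zero_add, zero_add] at hxd
    have hyd := basis_dec B y
    rw [(hB y hy).1, (hB y hy).2, zero_smul, zero_smul, zero_add, zero_add] at hyd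
    set w := B 0 + μ • B 1
    set x0 := B.coord 2 x
    set x1 := B.coord 3 x
    set u0 := B.coord 2 y
    set u1 := B.coord 3 y
    have hU0 : ∀ x ∈ U, ∀ y ∈ U, ∀ z ∈ U, T x y z = 0 := fun x hx y hy z hz =>
      hT.eq_zero_of_diag U hU.2 hx hy hz
    have f1 : T x x w = 0 := by
      have h1 := hU0 x hxU x hxU _ hyU
      rw [map_add, hΛ0 x hx x hx y hy, zero_add] at h1
      exact h1
    have f2 : 2 * T x y w + T x w w = 0 := by
      have h1 := hU0 x hxU _ hyU _ hyU
      simp only [map_add, LinearMap.add_apply] at h1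
      rw [hΛ0 x hx y hy y hy, hT.s23 x w y] at h1
      linear_combination h1
    have f3 : 3 * T y y w + 3 * T y w w + T w w w = 0 := by
      have h1 := hU.2 _ hyU
      rw [hT.cube_add, hΛ0 y hy y hy y hy] at h1
      linear_combination h1
    rw [hxd] at f1 f2
    rw [hyd] at f2 f3
    simp only [map_add, map_smul, LinearMap.add_apply, LinearMap.smul_apply, smul_eq_mul] at f1 f2 f3
    rw [hT.s12 (B 3) (B 2) w] at f1 f2 f3
    have key := det_zero (a := 6 * T (B 2) (B 2) w) (b := 6 * T (B 2) (B 3) w)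
      (c := 6 * T (B 3) (B 3) w) (d := 3 * T (B 2) w w) (e := 3 * T (B 3) w w)
      (f := 2 * T w w w) (x0 := x0) (x1 := x1) (u0 := u0) (u1 := u1)
      (by linear_combination 6 * f1) (by linear_combination 3 * f2)
      (by linear_combination 2 * f3) (by
        by_contra hc
        push Not at hc
        apply hx0
        rw [hxd, hc.1, hc.2]; simp)
    have e2 : (eval μ 2 : k) = 2 := by simp
    rw [e2]
    linear_combination key
  obtain ⟨z, hz0, hz⟩ := Matrix.exists_mulVec_eq_zero_iff.mpr hdet0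
  refine ⟨z, hz0, fun μ => ⟨?_, ?_⟩⟩
  · have h0 := congrArg (eval μ) (congrFun hz 0)
    have h1 := congrArg (eval μ) (congrFun hz 1)
    simp only [hM, Matrix.mulVec, dotProduct, Fin.sum_univ_three, Matrix.of_apply,
      Matrix.cons_val', Matrix.cons_val_zero, Matrix.cons_val_one, Matrix.cons_val,
      Matrix.cons_val_fin_one, eval_add, eval_mul, ea, eb, ec, ed, ee, Pi.zero_apply,
      eval_zero] at h0 h1
    have h3 : (3 : k) ≠ 0 := by norm_num
    intro i hi
    apply mul_left_cancel₀ h3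
    rcases hi with rfl | rfl
    · simp only [map_add, map_smul, LinearMap.add_apply, LinearMap.smul_apply,
        smul_eq_mul] at h0 ⊢
      linear_combination h0
    · simp only [map_add, map_smul, LinearMap.add_apply, LinearMap.smul_apply,
        smul_eq_mul] at h1 ⊢
      rw [hT.s12 (B 3) (B 2) (B 0), hT.s12 (B 3) (B 2) (B 1)]
      linear_combination h1
  · have h2 := congrArg (eval μ) (congrFun hz 2)
    simp only [hM, Matrix.mulVec, dotProduct, Fin.sum_univ_three, Matrix.of_apply,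
      Matrix.cons_val', Matrix.cons_val_zero, Matrix.cons_val_one, Matrix.cons_val,
      Matrix.cons_val_fin_one, eval_add, eval_mul, ef, ed, ee, Pi.zero_apply,
      eval_zero] at h2
    simp only [map_add, map_smul, LinearMap.add_apply, LinearMap.smul_apply,
        smul_eq_mul] at h2 ⊢
    linear_combination h2

/-- **Pencil lemma.** -/
theorem singSet_infinite [CharZero k] [FiniteDimensional k V] (hV : finrank k V = 4)
    (hT : IsSym3 T) (hN : NoPlane T) (hC : NoCone T) {Λ : Submodule k V} (hΛ : Λ ∈ Lines T)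
    (hinf : {U : Submodule k V | U ∈ Lines T ∧ U ≠ Λ ∧ U ⊓ Λ ≠ ⊥}.Infinite) :
    (SingSet T).Infinite := by
  have : Infinite k := Infinite.of_injective (Nat.cast : ℕ → k) Nat.cast_injective
  obtain ⟨B, hB2, hB3, hB⟩ := exists_basis hV hΛ.1
  obtain ⟨z, hz0, hz⟩ := exists_vertex hT hN hΛ hB2 hB3 hB hinf
  have hΛ0 : ∀ x ∈ Λ, ∀ y ∈ Λ, ∀ z ∈ Λ, T x y z = 0 := fun x hx y hy z hz =>
    hT.eq_zero_of_diag Λ hΛ.2 hx hy hz
  set P : Fin 4 → k[X] := ![z 2, X * z 2, z 0, z 1] with hP
  have evP : ∀ μ, ev B P μ = ((z 0).eval μ • B 2 + (z 1).eval μ • B 3) +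
      (z 2).eval μ • (B 0 + μ • B 1) := fun μ => by
    rw [ev_apply]; simp [hP]; module
  have hx : ∀ μ, (z 0).eval μ • B 2 + (z 1).eval μ • B 3 ∈ Λ := fun μ =>
    Λ.add_mem (Λ.smul_mem _ hB2) (Λ.smul_mem _ hB3)
  -- tangential equations
  have hP2 : ∀ μ, ∀ i : Fin 4, i = 2 ∨ i = 3 → T (ev B P μ) (ev B P μ) (B i) = 0 := by
    intro μ i hi
    have hBi : B i ∈ Λ := by rcases hi with rfl | rfl <;> assumption
    have h1 := (hz μ).1 i hi
    rw [evP, hT.sq_add_smul, hΛ0 _ (hx μ) _ (hx μ) _ hBi, hT.rot' _ (B 0 + μ • B 1) (B i),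
      hT.rot' (B 0 + μ • B 1) (B 0 + μ • B 1) (B i)]
    linear_combination (z 2).eval μ * h1
  have hPw : ∀ μ, T (ev B P μ) (ev B P μ) (B 0 + μ • B 1) = 0 := by
    intro μ
    have h2 := (hz μ).1 2 (Or.inl rfl)
    have h3 := (hz μ).1 3 (Or.inr rfl)
    have h4 := (hz μ).2
    set w := B 0 + μ • B 1 with hw
    have h5 : 2 * T ((z 0).eval μ • B 2 + (z 1).eval μ • B 3)
        ((z 0).eval μ • B 2 + (z 1).eval μ • B 3) w +
        (z 2).eval μ * T ((z 0).eval μ • B 2 + (z 1).eval μ • B 3) w w = 0 := by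
      have e : ∀ y : V, T ((z 0).eval μ • B 2 + (z 1).eval μ • B 3) y w =
          (z 0).eval μ * T (B 2) y w + (z 1).eval μ * T (B 3) y w := by
        intro y
        simp only [map_add, map_smul, LinearMap.add_apply, LinearMap.smul_apply, smul_eq_mul]
      rw [e, e]
      linear_combination (z 0).eval μ * h2 + (z 1).eval μ * h3
    rw [evP, hT.sq_add_smul]
    have h2' : (2 : k) ≠ 0 := two_ne_zero
    apply mul_left_cancel₀ h2'
    linear_combination h5 + (z 2).eval μ * h4
  have hPP : ∀ μ, T (ev B P μ) (ev B P μ) (ev B P μ) = 0 := by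
    intro μ
    have : T (ev B P μ) (ev B P μ) (ev B P μ) =
        (z 0).eval μ * T (ev B P μ) (ev B P μ) (B 2) +
          (z 1).eval μ * T (ev B P μ) (ev B P μ) (B 3) +
          (z 2).eval μ * T (ev B P μ) (ev B P μ) (B 0 + μ • B 1) := by
      have e := congrArg (T (ev B P μ) (ev B P μ)) (evP μ)
      rw [map_add (T (ev B P μ) (ev B P μ)), map_add (T (ev B P μ) (ev B P μ)), map_smul,
        map_smul, map_smul] at e
      exact e
    rw [this, hP2 μ 2 (Or.inl rfl), hP2 μ 3 (Or.inr rfl), hPw]; ring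
  by_cases hz2 : z 2 = 0
  · -- the vertex lies on Λ
    have evP' : ∀ μ, ev B P μ = (z 0).eval μ • B 2 + (z 1).eval μ • B 3 := fun μ => by
      rw [evP, hz2]; simp
    have hPΛ : ∀ μ, ev B P μ ∈ Λ := fun μ => by rw [evP']; exact hx μ
    have hPi : ∀ μ, ∀ i : Fin 4, i = 2 ∨ i = 3 → T (B i) (ev B P μ) (B 0 + μ • B 1) = 0 := by
      intro μ i hi
      have h1 := (hz μ).1 i hi
      rw [hz2, eval_zero, zero_mul, add_zero, ← evP'] at h1
      exact (mul_eq_zero.mp h1).resolve_left two_ne_zero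
    have hPww : ∀ μ, T (ev B P μ) (B 0 + μ • B 1) (B 0 + μ • B 1) = 0 := by
      intro μ
      have h1 := (hz μ).2
      rw [hz2, eval_zero, mul_zero, zero_mul, add_zero, ← evP'] at h1
      exact (mul_eq_zero.mp h1).resolve_left (by norm_num)
    -- derivative of T p p w = 0
    set W : Fin 4 → k[X] := ![1, X, 0, 0] with hW
    have evW : ∀ μ, ev B W μ = B 0 + μ • B 1 := fun μ => by rw [ev_apply]; simp [hW]
    have evW' : ∀ μ, ev B (fun i => derivative (W i)) μ = B 1 := fun μ => by
      rw [ev_apply]; simp [hW]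
    have evPd : ∀ μ, ev B (fun i => derivative (P i)) μ =
        (derivative (z 0)).eval μ • B 2 + (derivative (z 1)).eval μ • B 3 := fun μ => by
      rw [ev_apply]; simp [hP, hz2]
    have hPB1 : ∀ μ, T (ev B P μ) (ev B P μ) (B 1) = 0 := by
      intro μ
      have h1 := deriv_identity (T := T) B P P W (fun μ => by rw [evW]; exact hPw μ) μ
      rw [evW', evW, evPd] at h1
      simp only [map_add, map_smul, LinearMap.add_apply, LinearMap.smul_apply, smul_eq_mul] at h1
      have e2 := hPi μ 2 (Or.inl rfl)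
      have e3 := hPi μ 3 (Or.inr rfl)
      rw [map_add, map_smul, smul_eq_mul] at e2 e3
      rw [hT.s12 (ev B P μ) (B 2) (B 0), hT.s12 (ev B P μ) (B 2) (B 1),
        hT.s12 (ev B P μ) (B 3) (B 0), hT.s12 (ev B P μ) (B 3) (B 1)] at h1
      linear_combination h1 - 2 * (derivative (z 0)).eval μ * e2 -
        2 * (derivative (z 1)).eval μ * e3
    have hPB0 : ∀ μ, T (ev B P μ) (ev B P μ) (B 0) = 0 := by
      intro μ
      have h1 := hPw μ
      rw [map_add, map_smul, hPB1, smul_zero, add_zero] at h1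
      exact h1
    have hsing : ∀ μ, ∀ v, T (ev B P μ) (ev B P μ) v = 0 := by
      intro μ v
      rw [basis_dec B v]
      simp only [map_add, map_smul, hPB0, hPB1, hP2 μ 2 (Or.inl rfl), hP2 μ 3 (Or.inr rfl),
        smul_zero, add_zero]
    intro hfin
    -- the set of good parameters
    have hS : {μ : k | ev B P μ ≠ 0}.Infinite := by
      have hz01 : z 0 ≠ 0 ∨ z 1 ≠ 0 := by
        by_contra hc
        push Not at hc
        apply hz0
        funext i
        fin_cases i
        · exact hc.1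
        · exact hc.2
        · exact hz2
      have hfin2 : {μ : k | ev B P μ = 0}.Finite := by
        have hcoord : ∀ μ, ev B P μ = 0 → (z 0).eval μ = 0 ∧ (z 1).eval μ = 0 := by
          intro μ h
          rw [evP'] at h
          have h2 := congrArg (B.coord 2) h
          have h3 := congrArg (B.coord 3) h
          simp at h2 h3
          exact ⟨h2, h3⟩
        rcases hz01 with h | h
        · exact (Polynomial.finite_setOfPred_isRoot h).subset fun μ hμ => (hcoord μ hμ).1
        · exact (Polynomial.finite_setOfPred_isRoot h).subset fun μ hμ => (hcoord μ hμ).2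
      have := hfin2.infinite_compl
      exact this
    have hfib : ∃ U ∈ SingSet T, {μ : k | ev B P μ ≠ 0 ∧ ev B P μ ∈ U}.Infinite := by
      by_contra hc
      push Not at hc
      apply hS
      refine (hfin.biUnion (t := fun U => {μ : k | ev B P μ ≠ 0 ∧ ev B P μ ∈ U})
        fun U hU => hc U hU).subset ?_
      intro μ hμ
      refine Set.mem_biUnion (x := Submodule.span k {ev B P μ}) ?_
        ⟨hμ, Submodule.mem_span_singleton_self _⟩
      refine ⟨finrank_span_singleton hμ, fun x hx w => ?_⟩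
      obtain ⟨c, rfl⟩ := Submodule.mem_span_singleton.mp hx
      simp only [map_smul, LinearMap.smul_apply, hsing μ, smul_zero]
    obtain ⟨U, hU, hUinf⟩ := hfib
    obtain ⟨s, hs, hs0, hUs⟩ := exists_ne_zero_of_finrank_one hU.1
    have hsm : ∀ μ, ev B P μ ≠ 0 → ev B P μ ∈ U → ∃ c : k, c • ev B P μ = s := by
      intro μ h1 h2
      rw [hUs] at h2
      obtain ⟨c, hc⟩ := Submodule.mem_span_singleton.mp h2
      have hc0 : c ≠ 0 := by rintro rfl; rw [zero_smul] at hc; exact h1 hc.symm
      exact ⟨c⁻¹, by rw [← hc, smul_smul, inv_mul_cancel₀ hc0, one_smul]⟩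
    have hsΛ : s ∈ Λ := by
      obtain ⟨μ, h1, h2⟩ := hUinf.nonempty
      obtain ⟨c, hc⟩ := hsm μ h1 h2
      rw [← hc]; exact Λ.smul_mem _ (hPΛ μ)
    -- polynomial identities in μ
    have q1 : ∀ i : Fin 4, i = 2 ∨ i = 3 → T (B i) s (B 0) = 0 ∧ T (B i) s (B 1) = 0 := by
      intro i hi
      have hp : (C (T (B i) s (B 0)) + C (T (B i) s (B 1)) * X : k[X]) = 0 := by
        apply Polynomial.eq_zero_of_infinite_isRoot
        refine hUinf.mono ?_
        rintro μ ⟨h1, h2⟩
        obtain ⟨c, hc⟩ := hsm μ h1 h2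
        have h3 := hPi μ i hi
        show eval μ _ = 0
        have h4 : T (B i) s (B 0 + μ • B 1) = 0 := by
          rw [← hc, map_smul, LinearMap.smul_apply, h3, smul_zero]
        rw [map_add, map_smul, smul_eq_mul] at h4
        simp only [eval_add, eval_mul, eval_C, eval_X]
        linear_combination h4
      have c0 := congrArg (fun p => Polynomial.coeff p 0) hp
      have c1 := congrArg (fun p => Polynomial.coeff p 1) hp
      simp at c0 c1
      exact ⟨c0, c1⟩
    have q2 : T s (B 0) (B 0) = 0 ∧ T s (B 0) (B 1) = 0 ∧ T s (B 1) (B 1) = 0 := by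
      have hp : (C (T s (B 0) (B 0)) + C (2 * T s (B 0) (B 1)) * X +
          C (T s (B 1) (B 1)) * X ^ 2 : k[X]) = 0 := by
        apply Polynomial.eq_zero_of_infinite_isRoot
        refine hUinf.mono ?_
        rintro μ ⟨h1, h2⟩
        obtain ⟨c, hc⟩ := hsm μ h1 h2
        have h3 := hPww μ
        show eval μ _ = 0
        have h4 : T s (B 0 + μ • B 1) (B 0 + μ • B 1) = 0 := by
          rw [← hc, map_smul, LinearMap.smul_apply, LinearMap.smul_apply, h3, smul_zero]
        simp only [map_add, map_smul, LinearMap.add_apply, LinearMap.smul_apply,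
          smul_eq_mul] at h4
        rw [hT.s23 s (B 1) (B 0)] at h4
        simp only [eval_add, eval_mul, eval_C, eval_X, eval_pow]
        linear_combination h4
      have c0 := congrArg (fun p => Polynomial.coeff p 0) hp
      have c1 := congrArg (fun p => Polynomial.coeff p 1) hp
      have c2 := congrArg (fun p => Polynomial.coeff p 2) hp
      simp [Polynomial.coeff_X, Polynomial.coeff_C, Polynomial.coeff_X_pow] at c0 c1 c2
      exact ⟨c0, c1, c2⟩
    apply hs0
    apply hC
    intro x y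
    have k1 := q1 2 (Or.inl rfl)
    have k2 := q1 3 (Or.inr rfl)
    have m22 := hΛ0 s hsΛ _ hB2 _ hB2
    have m23 := hΛ0 s hsΛ _ hB2 _ hB3
    have m32 := hΛ0 s hsΛ _ hB3 _ hB2
    have m33 := hΛ0 s hsΛ _ hB3 _ hB3
    have n1 : T s (B 2) (B 0) = 0 := by rw [hT.s12]; exact k1.1
    have n2 : T s (B 2) (B 1) = 0 := by rw [hT.s12]; exact k1.2
    have n3 : T s (B 3) (B 0) = 0 := by rw [hT.s12]; exact k2.1
    have n4 : T s (B 3) (B 1) = 0 := by rw [hT.s12]; exact k2.2
    have n1' : T s (B 0) (B 2) = 0 := by rw [hT.s23]; exact n1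
    have n2' : T s (B 1) (B 2) = 0 := by rw [hT.s23]; exact n2
    have n3' : T s (B 0) (B 3) = 0 := by rw [hT.s23]; exact n3
    have n4' : T s (B 1) (B 3) = 0 := by rw [hT.s23]; exact n4
    have n5 : T s (B 1) (B 0) = 0 := by rw [hT.s23]; exact q2.2.1
    rw [basis_dec B x, basis_dec B y]
    simp only [map_add, map_smul, LinearMap.add_apply, LinearMap.smul_apply, m22, m23, m32, m33,
      n1, n2, n3, n4, n1', n2', n3', n4', n5, q2.1, q2.2.1, q2.2.2, smul_zero, add_zero]
  · -- the vertex is outside Λ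
    have hPd : ∀ μ, (z 2).eval μ * T (ev B P μ) (ev B P μ) (B 1) = 0 := by
      intro μ
      have h1 := deriv_identity (T := T) B P P P hPP μ
      have evPd : ev B (fun i => derivative (P i)) μ =
          (derivative (z 0)).eval μ • B 2 + (derivative (z 1)).eval μ • B 3 +
          (derivative (z 2)).eval μ • (B 0 + μ • B 1) + (z 2).eval μ • B 1 := by
        rw [ev_apply]; simp [hP]; module
      rw [hT.rot (ev B (fun i => derivative (P i)) μ), hT.s23 (ev B P μ)
        (ev B (fun i => derivative (P i)) μ)] at h1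
      have h2 : 3 * T (ev B P μ) (ev B P μ) (ev B (fun i => derivative (P i)) μ) = 0 := by
        linear_combination h1
      have h3 := (mul_eq_zero.mp h2).resolve_left (by norm_num)
      rw [evPd, map_add, map_add, map_add, map_smul, map_smul, map_smul, map_smul,
        hP2 μ 2 (Or.inl rfl), hP2 μ 3 (Or.inr rfl), hPw] at h3
      simpa using h3
    have hS : {μ : k | (z 2).eval μ ≠ 0}.Infinite := by
      have := (Polynomial.finite_setOfPred_isRoot hz2).infinite_compl
      exact this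
    refine Set.infinite_of_injOn_mapsTo (f := fun μ => Submodule.span k {ev B P μ}) ?_ ?_ hS
    · intro μ hμ ν hν h
      have hμ' : (z 2).eval μ ≠ 0 := hμ
      have h1 : ev B P ν ∈ Submodule.span k {ev B P μ} := by
        have h' : Submodule.span k {ev B P μ} = Submodule.span k {ev B P ν} := h
        rw [h']; exact Submodule.mem_span_singleton_self _
      obtain ⟨c, hc⟩ := Submodule.mem_span_singleton.mp h1
      rw [evP, evP] at hc
      have c0 := congrArg (B.coord 0) hc
      have c1 := congrArg (B.coord 1) hc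
      simp at c0 c1
      have hν' : (z 2).eval ν ≠ 0 := hν
      apply mul_left_cancel₀ hν'
      rw [← c0] at c1 ⊢
      linear_combination c1
    · intro μ hμ
      have hμ' : (z 2).eval μ ≠ 0 := hμ
      have h1 : T (ev B P μ) (ev B P μ) (B 1) = 0 :=
        (mul_eq_zero.mp (hPd μ)).resolve_left hμ'
      have h0 : T (ev B P μ) (ev B P μ) (B 0) = 0 := by
        have h2 := hPw μ
        rw [map_add, map_smul, h1, smul_zero, add_zero] at h2
        exact h2
      have hne : ev B P μ ≠ 0 := by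
        intro h
        have c0 := congrArg (B.coord 0) h
        rw [evP] at c0
        simp at c0
        exact hμ' c0
      refine ⟨finrank_span_singleton hne, fun x hx w => ?_⟩
      obtain ⟨c, rfl⟩ := Submodule.mem_span_singleton.mp hx
      rw [basis_dec B w]
      simp only [map_smul, LinearMap.smul_apply, map_add, h0, h1, hP2 μ 2 (Or.inl rfl),
        hP2 μ 3 (Or.inr rfl), smul_zero, add_zero]

end K656.Pencil
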