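import Groth.Agent.Cubic.K656.TPoint

set_option autoImplicit false

/-! Cubic surfaces with infinitely many singular points are singular along a line. -/

namespace K656.Sing

open K656.Trilin K656.Eckardt K656.TPoint Module

universe u v

variable {k : Type u} [Field k] {V : Type v} [AddCommGroup V] [Module k V]

theorem li2 {x y : V} (hx : x ≠ 0) (hy : y ∉ Submodule.span k {x}) :
    LinearIndependent k ![y, x] := by
  have : LinearIndependent k ![x, y] := by
    rw [LinearIndependent.pair_iff' hx]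
    intro a ha
    exact hy (Submodule.mem_span_singleton.mpr ⟨a, ha⟩)
  rw [LinearIndependent.pair_iff] at this ⊢
  intro s t hst
  have h := this t s (by rw [add_comm]; exact hst)
  exact ⟨h.2, h.1⟩

theorem li3 {x y z : V} (hx : x ≠ 0) (hy : y ∉ Submodule.span k {x})
    (hz : z ∉ Submodule.span k {y, x}) : LinearIndependent k ![z, y, x] := by
  have h := (linearIndependent_finCons (K := k) (x := z) (v := ![y, x])).mpr ⟨li2 hx hy, by
    have : Set.range ![y, x] = {y, x} := by simp [Set.pair_comm]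
    rw [this]; exact hz⟩
  exact h

theorem li4 {x y z w : V} (hx : x ≠ 0) (hy : y ∉ Submodule.span k {x})
    (hz : z ∉ Submodule.span k {y, x}) (hw : w ∉ Submodule.span k {z, y, x}) :
    LinearIndependent k ![w, z, y, x] := by
  have h := (linearIndependent_finCons (K := k) (x := w) (v := ![z, y, x])).mpr ⟨li3 hx hy hz, by
    have : Set.range ![z, y, x] = {z, y, x} := by
      ext a; simp [eq_comm, or_comm]; tauto
    rw [this]; exact hw⟩
  exact h

theorem mem_span_triple {x y z w : V} :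
    w ∈ Submodule.span k {x, y, z} ↔ ∃ a b c : k, a • x + b • y + c • z = w := by
  rw [Submodule.mem_span_insert]
  constructor
  · rintro ⟨a, v, hv, rfl⟩
    obtain ⟨b, c, rfl⟩ := Submodule.mem_span_pair.mp hv
    exact ⟨a, b, c, by rw [add_assoc]⟩
  · rintro ⟨a, b, c, rfl⟩
    exact ⟨a, b • y + c • z, Submodule.mem_span_pair.mpr ⟨b, c, rfl⟩, by rw [add_assoc]⟩

theorem finrank_span_triple {x y z : V} (hx : x ≠ 0) (hy : y ∉ Submodule.span k {x})
    (hz : z ∉ Submodule.span k {y, x}) : finrank k ↥(Submodule.span k {z, y, x}) = 3 := by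
  have := finrank_span_eq_card (li3 hx hy hz)
  have hr : Set.range ![z, y, x] = {z, y, x} := by
    ext a; simp [eq_comm, or_comm]; tauto
  rw [hr] at this
  simpa using this

/-- singular points -/
def IsSing (T : V →ₗ[k] V →ₗ[k] V →ₗ[k] k) (s : V) : Prop := s ≠ 0 ∧ ∀ w, T s s w = 0

/-- the set of singular points, projectively -/
def SingSet (T : V →ₗ[k] V →ₗ[k] V →ₗ[k] k) : Set (Submodule k V) :=
  {U | finrank k ↥U = 1 ∧ ∀ x ∈ U, ∀ w, T x x w = 0}

/-- double line -/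
def DoubleLine (T : V →ₗ[k] V →ₗ[k] V →ₗ[k] k) (D : Submodule k V) : Prop :=
  finrank k ↥D = 2 ∧ ∀ x ∈ D, ∀ w, T x x w = 0

variable {T : V →ₗ[k] V →ₗ[k] V →ₗ[k] k}

theorem doubleLine_of_three [CharZero k] (hT : IsSym3 T) {s₁ s₂ s₃ : V}
    (h1 : IsSing T s₁) (h2 : IsSing T s₂) (h3 : IsSing T s₃)
    (h12 : s₂ ∉ Submodule.span k {s₁}) (h13 : s₃ ∉ Submodule.span k {s₁})
    (h23 : s₃ ∉ Submodule.span k {s₂}) (h : s₃ ∈ Submodule.span k {s₁, s₂}) :
    DoubleLine T (Submodule.span k {s₁, s₂}) := by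
  refine ⟨finrank_span_pair' h1.1 h12, ?_⟩
  obtain ⟨α, β, rfl⟩ := Submodule.mem_span_pair.mp h
  have hα : α ≠ 0 := by
    rintro rfl
    apply h23
    rw [zero_smul, zero_add]
    exact Submodule.smul_mem _ _ (Submodule.mem_span_singleton_self _)
  have hβ : β ≠ 0 := by
    rintro rfl
    apply h13
    rw [zero_smul, add_zero]
    exact Submodule.smul_mem _ _ (Submodule.mem_span_singleton_self _)
  have hz : ∀ w, T s₁ s₂ w = 0 := by
    intro w
    have := h3.2 w
    rw [hT.sq_smul_add_smul, h1.2, h2.2] at this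
    have h4 : (2 * α * β) * T s₁ s₂ w = 0 := by linear_combination this
    exact (mul_eq_zero.mp h4).resolve_left (mul_ne_zero (mul_ne_zero two_ne_zero hα) hβ)
  intro x hx w
  obtain ⟨γ, δ, rfl⟩ := Submodule.mem_span_pair.mp hx
  rw [hT.sq_smul_add_smul, h1.2, h2.2, hz]; ring

/-- expansion on the span of three singular points -/
theorem cube_three (hT : IsSym3 T) {s₁ s₂ s₃ : V}
    (h1 : IsSing T s₁) (h2 : IsSing T s₂) (h3 : IsSing T s₃) (a b c : k) :
    T (a • s₁ + b • s₂ + c • s₃) (a • s₁ + b • s₂ + c • s₃) (a • s₁ + b • s₂ + c • s₃) =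
      6 * a * b * c * T s₁ s₂ s₃ := by
  have e1 := fun w => h1.2 w
  have e2 := fun w => h2.2 w
  have e3 := fun w => h3.2 w
  have f1 : ∀ w, T s₁ w s₁ = 0 := fun w => by rw [hT.s23]; exact e1 w
  have f2 : ∀ w, T s₂ w s₂ = 0 := fun w => by rw [hT.s23]; exact e2 w
  have f3 : ∀ w, T s₃ w s₃ = 0 := fun w => by rw [hT.s23]; exact e3 w
  have g1 : ∀ w, T w s₁ s₁ = 0 := fun w => by rw [hT.rot]; exact e1 w
  have g2 : ∀ w, T w s₂ s₂ = 0 := fun w => by rw [hT.rot]; exact e2 w
  have g3 : ∀ w, T w s₃ s₃ = 0 := fun w => by rw [hT.rot]; exact e3 w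
  simp only [map_add, map_smul, LinearMap.add_apply, LinearMap.smul_apply, smul_eq_mul,
    e1, e2, e3, f1, f2, f3, g1, g2, g3]
  rw [hT.s23 s₁ s₃ s₂, hT.s12 s₂ s₁ s₃, hT.rot' s₂ s₃ s₁, hT.rot s₃ s₁ s₂, hT.s13 s₃ s₂ s₁]
  ring

/-- expansion of `T v v s₁` -/
theorem sq_three (hT : IsSym3 T) {s₁ s₂ s₃ : V}
    (h1 : IsSing T s₁) (h2 : IsSing T s₂) (h3 : IsSing T s₃) (a b c : k) :
    T (a • s₁ + b • s₂ + c • s₃) (a • s₁ + b • s₂ + c • s₃) s₁ = 2 * b * c * T s₁ s₂ s₃ ∧
    T (a • s₁ + b • s₂ + c • s₃) (a • s₁ + b • s₂ + c • s₃) s₂ = 2 * a * c * T s₁ s₂ s₃ ∧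
    T (a • s₁ + b • s₂ + c • s₃) (a • s₁ + b • s₂ + c • s₃) s₃ = 2 * a * b * T s₁ s₂ s₃ := by
  have e1 := fun w => h1.2 w
  have e2 := fun w => h2.2 w
  have e3 := fun w => h3.2 w
  have f1 : ∀ w, T s₁ w s₁ = 0 := fun w => by rw [hT.s23]; exact e1 w
  have f2 : ∀ w, T s₂ w s₂ = 0 := fun w => by rw [hT.s23]; exact e2 w
  have f3 : ∀ w, T s₃ w s₃ = 0 := fun w => by rw [hT.s23]; exact e3 w
  have g1 : ∀ w, T w s₁ s₁ = 0 := fun w => by rw [hT.rot]; exact e1 w
  have g2 : ∀ w, T w s₂ s₂ = 0 := fun w => by rw [hT.rot]; exact e2 w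
  have g3 : ∀ w, T w s₃ s₃ = 0 := fun w => by rw [hT.rot]; exact e3 w
  simp only [map_add, map_smul, LinearMap.add_apply, LinearMap.smul_apply, smul_eq_mul,
    e1, e2, e3, f1, f2, f3, g1, g2, g3]
  rw [hT.s23 s₁ s₃ s₂, hT.s12 s₂ s₁ s₃, hT.rot' s₂ s₃ s₁, hT.rot s₃ s₁ s₂, hT.s13 s₃ s₂ s₁]
  refine ⟨by ring, by ring, by ring⟩

theorem three_ne_zero' (hT : IsSym3 T) (hN : NoPlane T) {s₁ s₂ s₃ : V}
    (h1 : IsSing T s₁) (h2 : IsSing T s₂) (h3 : IsSing T s₃)
    (h12 : s₂ ∉ Submodule.span k {s₁}) (h123 : s₃ ∉ Submodule.span k {s₂, s₁}) :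
    T s₁ s₂ s₃ ≠ 0 := by
  intro h
  obtain ⟨x, hx, hx'⟩ := hN _ (finrank_span_triple h1.1 h12 h123)
  obtain ⟨a, b, c, rfl⟩ := mem_span_triple.mp hx
  apply hx'
  rw [cube_three hT h3 h2 h1, hT.s13 s₃ s₂ s₁, h, mul_zero]

theorem not_mem_plane [CharZero k] (hT : IsSym3 T) (hN : NoPlane T) {s₁ s₂ s₃ s₄ : V}
    (h1 : IsSing T s₁) (h2 : IsSing T s₂) (h3 : IsSing T s₃) (h4 : IsSing T s₄)
    (h12 : s₂ ∉ Submodule.span k {s₁}) (h123 : s₃ ∉ Submodule.span k {s₂, s₁})
    (h14 : s₄ ∉ Submodule.span k {s₁}) (h24 : s₄ ∉ Submodule.span k {s₂})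
    (h34 : s₄ ∉ Submodule.span k {s₃}) : s₄ ∉ Submodule.span k {s₃, s₂, s₁} := by
  intro h
  obtain ⟨c, b, a, rfl⟩ := mem_span_triple.mp h
  have hτ := three_ne_zero' hT hN h1 h2 h3 h12 h123
  rw [hT.s13 s₁ s₂ s₃] at hτ
  obtain ⟨e1, e2, e3⟩ := sq_three hT h3 h2 h1 c b a
  rw [h4.2] at e1 e2 e3
  have hba : b * a = 0 := by
    have : (2 * T s₃ s₂ s₁) * (b * a) = 0 := by linear_combination -e1
    exact (mul_eq_zero.mp this).resolve_left (mul_ne_zero two_ne_zero hτ)
  have hca : c * a = 0 := by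
    have : (2 * T s₃ s₂ s₁) * (c * a) = 0 := by linear_combination -e2
    exact (mul_eq_zero.mp this).resolve_left (mul_ne_zero two_ne_zero hτ)
  have hcb : c * b = 0 := by
    have : (2 * T s₃ s₂ s₁) * (c * b) = 0 := by linear_combination -e3
    exact (mul_eq_zero.mp this).resolve_left (mul_ne_zero two_ne_zero hτ)
  by_cases ha : a = 0
  · by_cases hb : b = 0
    · apply h34
      rw [ha, hb, zero_smul, zero_smul, add_zero, add_zero]
      exact Submodule.smul_mem _ _ (Submodule.mem_span_singleton_self _)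
    · have hc : c = 0 := (mul_eq_zero.mp hcb).resolve_right hb
      apply h24
      rw [ha, hc, zero_smul, zero_smul, add_zero, zero_add]
      exact Submodule.smul_mem _ _ (Submodule.mem_span_singleton_self _)
  · have hb : b = 0 := (mul_eq_zero.mp hba).resolve_right ha
    have hc : c = 0 := (mul_eq_zero.mp hca).resolve_right ha
    apply h14
    rw [hb, hc, zero_smul, zero_smul, add_zero, zero_add]
    exact Submodule.smul_mem _ _ (Submodule.mem_span_singleton_self _)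

/-- five singular points, no three collinear: impossible -/
theorem no_five [CharZero k] [FiniteDimensional k V] (hV : finrank k V = 4)
    (hT : IsSym3 T) (hN : NoPlane T) {s : Fin 5 → V}
    (hs : ∀ i, IsSing T (s i)) (h2 : ∀ i j, i ≠ j → s j ∉ Submodule.span k {s i})
    (h3 : ∀ i j l, i ≠ j → j ≠ l → i ≠ l → s l ∉ Submodule.span k {s j, s i}) : False := by
  have h4 : ∀ i j l m, i ≠ j → j ≠ l → i ≠ l → i ≠ m → j ≠ m → l ≠ m →
      s m ∉ Submodule.span k {s l, s j, s i} := fun i j l m hij hjl hil him hjm hlm =>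
    not_mem_plane hT hN (hs i) (hs j) (hs l) (hs m) (h2 i j hij) (h3 i j l hij hjl hil)
      (h2 i m him) (h2 j m hjm) (h2 l m hlm)
  have hli := li4 (hs 0).1 (h2 0 1 (by decide)) (h3 0 1 2 (by decide) (by decide) (by decide))
    (h4 0 1 2 3 (by decide) (by decide) (by decide) (by decide) (by decide) (by decide))
  set B := basisOfLinearIndependentOfCardEqFinrank hli (by rw [hV]; rfl) with hB
  have hBi : ∀ i, B i = ![s 3, s 2, s 1, s 0] i := fun i => by
    rw [hB, coe_basisOfLinearIndependentOfCardEqFinrank]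
  obtain ⟨c, hc⟩ : ∃ c : Fin 4 → k, s 4 = c 0 • s 3 + c 1 • s 2 + c 2 • s 1 + c 3 • s 0 := by
    refine ⟨B.repr (s 4), ?_⟩
    have := B.sum_repr (s 4)
    rw [Fin.sum_univ_four, hBi, hBi, hBi, hBi] at this
    exact this.symm
  have n0 : c 0 ≠ 0 := by
    intro h
    apply h4 0 1 2 4 (by decide) (by decide) (by decide) (by decide) (by decide) (by decide)
    rw [hc, h, mem_span_triple]
    exact ⟨c 1, c 2, c 3, by module⟩
  have n1 : c 1 ≠ 0 := by
    intro h
    apply h4 0 1 3 4 (by decide) (by decide) (by decide) (by decide) (by decide) (by decide)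
    rw [hc, h, mem_span_triple]
    exact ⟨c 0, c 2, c 3, by module⟩
  have n2 : c 2 ≠ 0 := by
    intro h
    apply h4 0 2 3 4 (by decide) (by decide) (by decide) (by decide) (by decide) (by decide)
    rw [hc, h, mem_span_triple]
    exact ⟨c 0, c 1, c 3, by module⟩
  have n3 : c 3 ≠ 0 := by
    intro h
    apply h4 1 2 3 4 (by decide) (by decide) (by decide) (by decide) (by decide) (by decide)
    rw [hc, h, mem_span_triple]
    exact ⟨c 0, c 1, c 2, by module⟩
  have e := fun i w => (hs i).2 w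
  have f : ∀ i w, T (s i) w (s i) = 0 := fun i w => by rw [hT.s23]; exact e i w
  have g : ∀ i w, T w (s i) (s i) = 0 := fun i w => by rw [hT.rot]; exact e i w
  have k0 := (hs 4).2 (s 0)
  have k1 := (hs 4).2 (s 1)
  have k2 := (hs 4).2 (s 2)
  have k3 := (hs 4).2 (s 3)
  rw [hc] at k0 k1 k2 k3
  simp only [map_add, map_smul, LinearMap.add_apply, LinearMap.smul_apply, smul_eq_mul,
    e, f, g] at k0 k1 k2 k3
  -- canonical products: A = T 1 2 3, B = T 0 2 3, C = T 0 1 3, D = T 0 1 2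
  have hA := three_ne_zero' hT hN (hs 1) (hs 2) (hs 3) (h2 1 2 (by decide))
    (h3 1 2 3 (by decide) (by decide) (by decide))
  have hB' := three_ne_zero' hT hN (hs 0) (hs 2) (hs 3) (h2 0 2 (by decide))
    (h3 0 2 3 (by decide) (by decide) (by decide))
  have hC := three_ne_zero' hT hN (hs 0) (hs 1) (hs 3) (h2 0 1 (by decide))
    (h3 0 1 3 (by decide) (by decide) (by decide))
  have hD := three_ne_zero' hT hN (hs 0) (hs 1) (hs 2) (h2 0 1 (by decide))
    (h3 0 1 2 (by decide) (by decide) (by decide))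
  simp only [hT.s23 (s 1) (s 3) (s 2),
    hT.s12 (s 2) (s 1) (s 3),
    hT.rot' (s 2) (s 3) (s 1),
    hT.rot (s 3) (s 1) (s 2),
    hT.s13 (s 3) (s 2) (s 1),
    hT.s23 (s 0) (s 3) (s 2),
    hT.s12 (s 2) (s 0) (s 3),
    hT.rot' (s 2) (s 3) (s 0),
    hT.rot (s 3) (s 0) (s 2),
    hT.s13 (s 3) (s 2) (s 0),
    hT.s23 (s 0) (s 3) (s 1),
    hT.s12 (s 1) (s 0) (s 3),
    hT.rot' (s 1) (s 3) (s 0),
    hT.rot (s 3) (s 0) (s 1),
    hT.s13 (s 3) (s 1) (s 0),
    hT.s23 (s 0) (s 2) (s 1),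
    hT.s12 (s 1) (s 0) (s 2),
    hT.rot' (s 1) (s 2) (s 0),
    hT.rot (s 2) (s 0) (s 1),
    hT.s13 (s 2) (s 1) (s 0)] at k0 k1 k2 k3
  set A := T (s 1) (s 2) (s 3)
  set B := T (s 0) (s 2) (s 3)
  set C := T (s 0) (s 1) (s 3)
  set D := T (s 0) (s 1) (s 2)
  have q0 : c 0 * c 1 * B + c 0 * c 2 * C + c 1 * c 2 * D = 0 := by
    apply mul_left_cancel₀ (two_ne_zero (α := k)); linear_combination k0
  have q1 : c 0 * c 1 * A + c 0 * c 3 * C + c 1 * c 3 * D = 0 := by
    apply mul_left_cancel₀ (two_ne_zero (α := k)); linear_combination k1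
  have q2 : c 0 * c 2 * A + c 0 * c 3 * B + c 2 * c 3 * D = 0 := by
    apply mul_left_cancel₀ (two_ne_zero (α := k)); linear_combination k2
  have q3 : c 1 * c 2 * A + c 1 * c 3 * B + c 2 * c 3 * C = 0 := by
    apply mul_left_cancel₀ (two_ne_zero (α := k)); linear_combination k3
  have r1 : c 3 * B = c 2 * A := by
    apply mul_left_cancel₀ (mul_ne_zero n0 n1); linear_combination c 3 * q0 - c 2 * q1
  have r2 : c 3 * C = c 1 * A := by
    apply mul_left_cancel₀ (mul_ne_zero n0 n2); linear_combination c 3 * q0 - c 1 * q2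
  have r3 : c 3 * D = c 0 * A := by
    apply mul_left_cancel₀ (mul_ne_zero n1 n2); linear_combination c 3 * q0 - c 0 * q3
  have : 3 * (c 0 * c 1 * c 2 * A) = 0 := by
    linear_combination c 3 * q0 - c 0 * c 1 * r1 - c 0 * c 2 * r2 - c 1 * c 2 * r3
  rcases mul_eq_zero.mp this with h | h
  · norm_num at h
  · exact (mul_ne_zero (mul_ne_zero (mul_ne_zero n0 n1) n2) hA) h

theorem exists_doubleLine [CharZero k] [FiniteDimensional k V] (hV : finrank k V = 4)
    (hT : IsSym3 T) (hN : NoPlane T) (hinf : (SingSet T).Infinite) : ∃ D, DoubleLine T D := by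
  obtain ⟨F, hF, hcard⟩ := hinf.exists_subset_card_eq 5
  set φ : Fin 5 ≃ F := (F.equivFinOfCardEq hcard).symm with hφ
  have hmem : ∀ i, ((φ i : Submodule k V)) ∈ SingSet T := fun i => hF (φ i).2
  choose s hs hs0 hspan using fun i => exists_ne_zero_of_finrank_one (hmem i).1
  have hsing : ∀ i, IsSing T (s i) := fun i => ⟨hs0 i, fun w => (hmem i).2 _ (hs i) w⟩
  have hpair : ∀ i j, i ≠ j → s j ∉ Submodule.span k {s i} := by
    intro i j hij h
    apply hij
    apply φ.injective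
    apply Subtype.ext
    have h1 : (φ j : Submodule k V) ≤ (φ i : Submodule k V) := by
      rw [hspan j, Submodule.span_singleton_le_iff_mem, hspan i]; exact h
    have : FiniteDimensional k ↥(φ i : Submodule k V) := inferInstance
    exact (Submodule.eq_of_le_of_finrank_eq h1 (by rw [(hmem j).1, (hmem i).1])).symm
  by_contra hno
  refine no_five hV hT hN hsing hpair ?_
  intro i j l hij hjl hil h
  apply hno
  rw [Set.pair_comm] at h
  exact ⟨_, doubleLine_of_three hT (hsing i) (hsing j) (hsing l) (hpair i j hij) (hpair i l hil)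
    (hpair j l hjl) h⟩

end K656.Sing
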