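import Groth.Agent.Cubic.K656.Eckardt

set_option autoImplicit false

/-! T-points of a cubic surface, in terms of a symmetric trilinear form. -/

namespace K656.TPoint

open K656.Trilin K656.Eckardt Module

universe u v

variable {k : Type u} [Field k] {V : Type v} [AddCommGroup V] [Module k V]

/-- The surface contains no plane. -/
def NoPlane (T : V →ₗ[k] V →ₗ[k] V →ₗ[k] k) : Prop :=
  ∀ P : Submodule k V, finrank k ↥P = 3 → ∃ x ∈ P, T x x x ≠ 0

/-- The surface is not a cone. -/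
def NoCone (T : V →ₗ[k] V →ₗ[k] V →ₗ[k] k) : Prop :=
  ∀ v : V, (∀ x y, T v x y = 0) → v = 0

/-- T-points. -/
def TP (T : V →ₗ[k] V →ₗ[k] V →ₗ[k] k) (b : V) : Prop :=
  b ≠ 0 ∧ T b b b = 0 ∧ (∃ w, T b b w ≠ 0) ∧
    ∃ L₁ L₂ L₃ : V →ₗ[k] k, ∀ x, T b b x = 0 → T x x x = L₁ x * L₂ x * L₃ x

/-- Lines on the surface. -/
def Lines (T : V →ₗ[k] V →ₗ[k] V →ₗ[k] k) : Set (Submodule k V) :=
  {U | finrank k ↥U = 2 ∧ ∀ u ∈ U, T u u u = 0}

theorem finrank_ker_of_ne [FiniteDimensional k V] (hV : finrank k V = 4)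
    {M : V →ₗ[k] k} (hM : ∃ w, M w ≠ 0) : finrank k ↥(LinearMap.ker M) = 3 := by
  obtain ⟨w, hw⟩ := hM
  exact mem_ker_finrank hV (fun h => hw (by rw [h]; rfl))

theorem finrank_inf_ker [FiniteDimensional k V] {P : Submodule k V} {M : V →ₗ[k] k}
    (hM : ∃ x ∈ P, M x ≠ 0) : finrank k ↥(P ⊓ LinearMap.ker M) + 1 = finrank k ↥P := by
  obtain ⟨x, hx, hMx⟩ := hM
  have hM0 : M ≠ 0 := fun h => hMx (by rw [h]; rfl)
  have h1 := LinearMap.finrank_range_add_finrank_ker M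
  have hr : finrank k ↥(LinearMap.range M) = 1 := by
    rw [LinearMap.range_eq_top.mpr (LinearMap.surjective hM0), finrank_top, finrank_self]
  have hlt : LinearMap.ker M < P ⊔ LinearMap.ker M := by
    refine lt_of_le_of_ne le_sup_right fun h => hMx ?_
    rw [← LinearMap.mem_ker, h]
    exact (le_sup_left : P ≤ _) hx
  have h3 := Submodule.finrank_lt_finrank_of_lt hlt
  have h4 := Submodule.finrank_sup_add_finrank_inf_eq P (LinearMap.ker M)
  have h5 := Submodule.finrank_le (P ⊔ LinearMap.ker M)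
  omega

theorem exists_mem_inf [FiniteDimensional k V] {P Q : Submodule k V}
    (h : finrank k V < finrank k ↥P + finrank k ↥Q) : ∃ x ∈ P, x ∈ Q ∧ x ≠ 0 := by
  have h4 := Submodule.finrank_sup_add_finrank_inf_eq P Q
  have h5 := Submodule.finrank_le (P ⊔ Q)
  have h6 : P ⊓ Q ≠ ⊥ := by
    intro h7
    rw [h7, finrank_bot] at h4
    omega
  obtain ⟨x, hx, hx0⟩ := Submodule.exists_mem_ne_zero_of_ne_bot h6
  exact ⟨x, (Submodule.mem_inf.mp hx).1, (Submodule.mem_inf.mp hx).2, hx0⟩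

theorem inf_eq_of_ne [FiniteDimensional k V] {P Q U : Submodule k V} (hP : finrank k ↥P = 2)
    (hQ : ¬ P ≤ Q) (hU : finrank k ↥U = 1) (hUP : U ≤ P) (hUQ : U ≤ Q) : U = P ⊓ Q := by
  apply Submodule.eq_of_le_of_finrank_le (le_inf hUP hUQ)
  have hlt : P ⊓ Q < P := lt_of_le_of_ne inf_le_left fun h => hQ (by rw [← h]; exact inf_le_right)
  have := Submodule.finrank_lt_finrank_of_lt hlt
  omega

/-- factorization of a binary quadratic form -/
theorem factor_quadratic [CharZero k] [IsAlgClosed k] (α β γ : k) :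
    ∃ m₁ m₂ m₃ m₄ : k, ∀ x y : k,
      α * x ^ 2 + β * x * y + γ * y ^ 2 = (m₁ * x + m₂ * y) * (m₃ * x + m₄ * y) := by
  by_cases hα : α = 0
  · exact ⟨0, 1, β, γ, fun x y => by rw [hα]; ring⟩
  · obtain ⟨δ, hδ⟩ := IsAlgClosed.exists_pow_nat_eq (β ^ 2 - 4 * α * γ) (n := 2) (by norm_num)
    refine ⟨α, -α * ((-β + δ) / (2 * α)), 1, -((-β - δ) / (2 * α)), fun x y => ?_⟩
    have h1 : ((-β + δ) / (2 * α)) + ((-β - δ) / (2 * α)) = -β / α := by
      field_simp; ring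
    have h2 : ((-β + δ) / (2 * α)) * ((-β - δ) / (2 * α)) = γ / α := by
      field_simp; linear_combination -hδ
    have h3 : (α * x + -α * ((-β + δ) / (2 * α)) * y) * (1 * x + -((-β - δ) / (2 * α)) * y) =
      α * x ^ 2 - α * (((-β + δ) / (2 * α)) + ((-β - δ) / (2 * α))) * x * y +
        α * (((-β + δ) / (2 * α)) * ((-β - δ) / (2 * α))) * y ^ 2 := by ring
    rw [h3, h1, h2]
    field_simp
    ring

/-- **Lemma P.** -/
theorem tp_of_line [CharZero k] [IsAlgClosed k] [FiniteDimensional k V] (hV : finrank k V = 4)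
    {T : V →ₗ[k] V →ₗ[k] V →ₗ[k] k} (hT : IsSym3 T) {a : V} (ha : a ≠ 0) (haa : T a a a = 0)
    (hsm : ∃ w, T a a w ≠ 0) {Λ : Submodule k V} (hΛ : Λ ∈ Lines T)
    (hΛH : ∀ x ∈ Λ, T a a x = 0) {h : V} (hh : T a a h = 0) (hhΛ : h ∉ Λ)
    (h1 : ∀ x ∈ Λ, T x h h = 0) (h2 : T h h h = 0) : TP T a := by
  refine ⟨ha, haa, hsm, ?_⟩
  obtain ⟨w, hw⟩ := hsm
  -- basis of Λ
  have hΛb : Λ ≠ ⊥ := by
    intro h0; have := hΛ.1; rw [h0, finrank_bot] at this; omega
  obtain ⟨u, hu, hu0⟩ := Submodule.exists_mem_ne_zero_of_ne_bot hΛb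
  obtain ⟨u', hu', huu', hΛs⟩ := exists_span_pair hΛ.1 hu0 hu
  have hli : LinearIndependent k ![u, u', h, w] := by
    rw [Fintype.linearIndependent_iff]
    intro g hg
    rw [Fin.sum_univ_four] at hg
    simp only [Matrix.cons_val_zero, Matrix.cons_val_one, Matrix.cons_val] at hg
    have e3 : g 3 = 0 := by
      have := congrArg (T a a) hg
      simp only [map_add, map_smul, hΛH u hu, hΛH u' hu', hh, mul_zero, zero_add,
        map_zero, smul_eq_mul] at this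
      exact (mul_eq_zero.mp this).resolve_right hw
    rw [e3, zero_smul, add_zero] at hg
    have e2 : g 2 = 0 := by
      by_contra h0
      apply hhΛ
      have : h = (-(g 2)⁻¹) • (g 0 • u + g 1 • u') := by
        have h3 : g 0 • u + g 1 • u' = -(g 2 • h) := eq_neg_of_add_eq_zero_left hg
        rw [h3, neg_smul, smul_neg, neg_neg, smul_smul, inv_mul_cancel₀ h0, one_smul]
      rw [this]
      exact Λ.smul_mem _ (Λ.add_mem (Λ.smul_mem _ hu) (Λ.smul_mem _ hu'))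
    rw [e2, zero_smul, add_zero] at hg
    have e1 : g 1 = 0 := by
      by_contra h0
      apply huu'
      have : u' = (-(g 1)⁻¹ * g 0) • u := by
        have h3 : g 0 • u = -(g 1 • u') := eq_neg_of_add_eq_zero_left hg
        rw [mul_smul, h3, neg_smul, smul_neg, neg_neg, smul_smul, inv_mul_cancel₀ h0, one_smul]
      rw [this]; exact Submodule.smul_mem _ _ (Submodule.mem_span_singleton_self u)
    rw [e1, zero_smul, add_zero] at hg
    have e0 : g 0 = 0 := (smul_eq_zero.mp hg).resolve_right hu0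
    intro i; fin_cases i
    · exact e0
    · exact e1
    · exact e2
    · exact e3
  set B := basisOfLinearIndependentOfCardEqFinrank hli (by rw [hV]; rfl) with hB
  have hBi : ∀ i, B i = ![u, u', h, w] i := fun i => by
    rw [hB, coe_basisOfLinearIndependentOfCardEqFinrank]
  have hdec : ∀ x : V, x = B.coord 0 x • u + B.coord 1 x • u' + B.coord 2 x • h +
      B.coord 3 x • w := by
    intro x
    have := B.sum_repr x
    rw [Fin.sum_univ_four, hBi, hBi, hBi, hBi] at this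
    exact this.symm
  obtain ⟨m₁, m₂, m₃, m₄, hm⟩ := factor_quadratic (T u u h) (2 * T u u' h) (T u' u' h)
  refine ⟨(3 : k) • B.coord 2, m₁ • B.coord 0 + m₂ • B.coord 1, m₃ • B.coord 0 + m₄ • B.coord 1,
    fun x hx => ?_⟩
  have h3 : B.coord 3 x = 0 := by
    rw [hdec x] at hx
    simp only [map_add, map_smul, hΛH u hu, hΛH u' hu', hh, mul_zero, zero_add,
      smul_eq_mul] at hx
    exact (mul_eq_zero.mp hx).resolve_right hw
  have hx' : x = (B.coord 0 x • u + B.coord 1 x • u') + B.coord 2 x • h := by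
    conv_lhs => rw [hdec x]
    rw [h3, zero_smul, add_zero]
  have hmem : B.coord 0 x • u + B.coord 1 x • u' ∈ Λ :=
    Λ.add_mem (Λ.smul_mem _ hu) (Λ.smul_mem _ hu')
  simp only [LinearMap.smul_apply, LinearMap.add_apply, smul_eq_mul]
  set c0 := B.coord 0 x
  set c1 := B.coord 1 x
  set c2 := B.coord 2 x
  rw [hx', hT.cube_add_smul, hΛ.2 _ hmem, h1 _ hmem, h2, hT.sq_smul_add_smul]
  linear_combination 3 * c2 * hm c0 c1

/-- **A1.** Lines in the tangent plane of a smooth point which is not a T-point pass through it. -/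
theorem mem_of_line_le [CharZero k] [IsAlgClosed k] [FiniteDimensional k V] (hV : finrank k V = 4)
    {T : V →ₗ[k] V →ₗ[k] V →ₗ[k] k} (hT : IsSym3 T) {a : V} (ha : a ≠ 0) (haa : T a a a = 0)
    (hsm : ∃ w, T a a w ≠ 0) (hn : ¬ TP T a) {Λ : Submodule k V} (hΛ : Λ ∈ Lines T)
    (hΛH : ∀ x ∈ Λ, T a a x = 0) : a ∈ Λ := by
  by_contra h
  exact hn (tp_of_line hV hT ha haa hsm hΛ hΛH haa h
    (fun x hx => by rw [hT.rot]; exact hΛH x hx) haa)

/-- If the tangent planes at `a` and at the T-point `b` agree then `a` is a T-point. -/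
theorem tp_of_eq {T : V →ₗ[k] V →ₗ[k] V →ₗ[k] k} {a b : V} (ha : a ≠ 0) (haa : T a a a = 0)
    (hsm : ∃ w, T a a w ≠ 0) (hb : TP T b) (h : ∀ x, T a a x = 0 → T b b x = 0) : TP T a := by
  obtain ⟨-, -, -, L₁, L₂, L₃, hL⟩ := hb
  exact ⟨ha, haa, hsm, L₁, L₂, L₃, fun x hx => hL x (h x hx)⟩

/-- **Lemma Q.** -/
theorem exists_forms [CharZero k] [FiniteDimensional k V] (hV : finrank k V = 4)
    {T : V →ₗ[k] V →ₗ[k] V →ₗ[k] k} (hT : IsSym3 T) (hN : NoPlane T) {b : V} (hb : TP T b) :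
    ∃ M₁ M₂ M₃ : V →ₗ[k] k, (∀ x, T b b x = 0 → T x x x = M₁ x * M₂ x * M₃ x) ∧
      M₁ b = 0 ∧ M₂ b = 0 ∧ (∃ x, T b b x = 0 ∧ M₁ x ≠ 0) ∧ (∃ x, T b b x = 0 ∧ M₂ x ≠ 0) ∧
      (∃ x, T b b x = 0 ∧ M₃ x ≠ 0) := by
  obtain ⟨hb0, hbb, hsm, L₁, L₂, L₃, hL⟩ := hb
  have h3 := finrank_ker_of_ne hV hsm
  obtain ⟨x₀, hx₀, hx₀'⟩ := hN _ h3
  rw [LinearMap.mem_ker] at hx₀
  have hx1 := hL x₀ hx₀
  have hn1 : L₁ x₀ ≠ 0 := fun h => hx₀' (by rw [hx1, h]; ring)
  have hn2 : L₂ x₀ ≠ 0 := fun h => hx₀' (by rw [hx1, h]; ring)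
  have hn3 : L₃ x₀ ≠ 0 := fun h => hx₀' (by rw [hx1, h]; ring)
  have hprod : L₁ b * L₂ b * L₃ b = 0 := by rw [← hL b hbb, hbb]
  -- derivative
  have hder : ∀ c, T b b c = 0 →
      L₁ c * L₂ b * L₃ b + L₁ b * L₂ c * L₃ b + L₁ b * L₂ b * L₃ c = 0 := by
    intro c hc
    have e1 : T (b + (1 : k) • c) (b + (1 : k) • c) (b + (1 : k) • c) =
      L₁ (b + (1 : k) • c) * L₂ (b + (1 : k) • c) * L₃ (b + (1 : k) • c) :=
      hL _ (by rw [map_add, map_smul, hbb, hc]; simp)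
    have e2 : T (b + (-1 : k) • c) (b + (-1 : k) • c) (b + (-1 : k) • c) =
      L₁ (b + (-1 : k) • c) * L₂ (b + (-1 : k) • c) * L₃ (b + (-1 : k) • c) :=
      hL _ (by rw [map_add, map_smul, hbb, hc]; simp)
    have e3 := hL c hc
    rw [hT.cube_add_smul, hbb, hc] at e1 e2
    simp only [map_add, map_smul, smul_eq_mul] at e1 e2
    have h2 : (2 : k) ≠ 0 := two_ne_zero
    apply mul_left_cancel₀ h2
    linear_combination -e1 + e2 + 2 * e3
  have hd := hder x₀ hx₀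
  by_cases h1 : L₁ b = 0
  · by_cases h2 : L₂ b = 0
    · exact ⟨L₁, L₂, L₃, hL, h1, h2, ⟨x₀, hx₀, hn1⟩, ⟨x₀, hx₀, hn2⟩, ⟨x₀, hx₀, hn3⟩⟩
    · have h3 : L₃ b = 0 := by
        rw [h1] at hd
        have : L₁ x₀ * L₂ b * L₃ b = 0 := by linear_combination hd
        exact (mul_eq_zero.mp this).resolve_left (mul_ne_zero hn1 h2)
      exact ⟨L₁, L₃, L₂, fun x hx => by rw [hL x hx]; ring, h1, h3, ⟨x₀, hx₀, hn1⟩,
        ⟨x₀, hx₀, hn3⟩, ⟨x₀, hx₀, hn2⟩⟩
  · by_cases h2 : L₂ b = 0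
    · have h3 : L₃ b = 0 := by
        rw [h2] at hd
        have : L₁ b * L₂ x₀ * L₃ b = 0 := by linear_combination hd
        exact (mul_eq_zero.mp this).resolve_left (mul_ne_zero h1 hn2)
      exact ⟨L₂, L₃, L₁, fun x hx => by rw [hL x hx]; ring, h2, h3, ⟨x₀, hx₀, hn2⟩,
        ⟨x₀, hx₀, hn3⟩, ⟨x₀, hx₀, hn1⟩⟩
    · exfalso
      have h3 : L₃ b = 0 := (mul_eq_zero.mp hprod).resolve_left (mul_ne_zero h1 h2)
      rw [h3] at hd
      have : L₁ b * L₂ b * L₃ x₀ = 0 := by linear_combination hd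
      exact (mul_ne_zero (mul_ne_zero h1 h2) hn3) this

/-- The line cut out by one of the factors. -/
theorem line_of_factor [CharZero k] [FiniteDimensional k V] (hV : finrank k V = 4)
    {T : V →ₗ[k] V →ₗ[k] V →ₗ[k] k} {b : V} (hsm : ∃ w, T b b w ≠ 0) {M₁ : V →ₗ[k] k}
    (hM : ∀ x, T b b x = 0 → M₁ x = 0 → T x x x = 0) (hne : ∃ x, T b b x = 0 ∧ M₁ x ≠ 0) :
    LinearMap.ker (T b b) ⊓ LinearMap.ker M₁ ∈ Lines T := by
  refine ⟨?_, fun u hu => hM u (Submodule.mem_inf.mp hu).1 (Submodule.mem_inf.mp hu).2⟩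
  have h3 := finrank_ker_of_ne hV hsm
  obtain ⟨x, hx, hx'⟩ := hne
  have := finrank_inf_ker (P := LinearMap.ker (T b b)) (M := M₁) ⟨x, hx, hx'⟩
  omega

/-- If `F` is a product on the plane `T b b = 0` with two factors vanishing at `a` then the
tangent plane at `a` contains that plane. -/
theorem sq_eq_zero_of_forms [CharZero k] {T : V →ₗ[k] V →ₗ[k] V →ₗ[k] k} (hT : IsSym3 T)
    {b : V} {M₁ M₂ M₃ : V →ₗ[k] k}
    (hM : ∀ x, T b b x = 0 → T x x x = M₁ x * M₂ x * M₃ x)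
    {y z : V} (hy : T b b y = 0) (hz : T b b z = 0) (hy1 : M₁ y = 0) (hy2 : M₂ y = 0)
    (hz1 : M₁ z = 0) (hz2 : M₂ z = 0) {c : V} (hc : T b b c = 0) : T y z c = 0 := by
  have h6 : (6 : k) ≠ 0 := by norm_num
  have e := hT.polar y z c
  rw [hM (y + z + c) (by rw [map_add, map_add, hy, hz, hc]; simp),
    hM (y + z) (by rw [map_add, hy, hz]; simp), hM (y + c) (by rw [map_add, hy, hc]; simp),
    hM (z + c) (by rw [map_add, hz, hc]; simp), hM y hy, hM z hz, hM c hc] at e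
  simp only [map_add, hy1, hy2, hz1, hz2] at e
  have : 6 * T y z c = 0 := by rw [e]; ring
  exact (mul_eq_zero.mp this).resolve_left h6

/-- The set of T-points in the tangent plane of `a`. -/
def TPset (T : V →ₗ[k] V →ₗ[k] V →ₗ[k] k) (a : V) : Set (Submodule k V) :=
  {U | finrank k ↥U = 1 ∧ U ≤ LinearMap.ker (T a a) ∧ ∀ b ∈ U, b ≠ 0 → TP T b}

theorem exists_ne_zero_of_finrank_one {U : Submodule k V} (hU : finrank k ↥U = 1) :
    ∃ b ∈ U, b ≠ 0 ∧ U = Submodule.span k {b} := by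
  have hb : U ≠ ⊥ := by
    intro h; rw [h, finrank_bot] at hU; omega
  obtain ⟨b, hb, hb0⟩ := Submodule.exists_mem_ne_zero_of_ne_bot hb
  have : FiniteDimensional k ↥U := FiniteDimensional.of_finrank_pos (by omega)
  refine ⟨b, hb, hb0, ?_⟩
  symm
  apply Submodule.eq_of_le_of_finrank_eq
  · rw [Submodule.span_singleton_le_iff_mem]; exact hb
  · rw [finrank_span_singleton hb0, hU]

/-- Finitely many lines on the surface imply the claim. -/
theorem finite_of_lines_finite [CharZero k] [IsAlgClosed k] [FiniteDimensional k V]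
    (hV : finrank k V = 4) {T : V →ₗ[k] V →ₗ[k] V →ₗ[k] k} (hT : IsSym3 T) (hN : NoPlane T)
    {a : V} (ha : a ≠ 0) (haa : T a a a = 0) (hsm : ∃ w, T a a w ≠ 0) (hn : ¬ TP T a)
    (hfin : (Lines T).Finite) : (TPset T a).Finite := by
  refine ((hfin.image2 (fun P Q => P ⊓ Q) hfin).union
    (hfin.image (fun P => P ⊓ LinearMap.ker (T a a)))).subset ?_
  rintro U ⟨hU1, hUH, hUT⟩
  obtain ⟨b, hbU, hb0, hUb⟩ := exists_ne_zero_of_finrank_one hU1
  have hb := hUT b hbU hb0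
  have hbH : T a a b = 0 := hUH hbU
  obtain ⟨M₁, M₂, M₃, hM, h1, h2, hn1, hn2, hn3⟩ := exists_forms hV hT hN hb
  have hsb := hb.2.2.1
  have hΛ1 : LinearMap.ker (T b b) ⊓ LinearMap.ker M₁ ∈ Lines T :=
    line_of_factor hV hsb (fun x hx h => by rw [hM x hx, h]; ring) hn1
  have hΛ2 : LinearMap.ker (T b b) ⊓ LinearMap.ker M₂ ∈ Lines T :=
    line_of_factor hV hsb (fun x hx h => by rw [hM x hx, h]; ring) hn2
  have hU1' : U ≤ LinearMap.ker (T b b) ⊓ LinearMap.ker M₁ := by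
    rw [hUb, Submodule.span_singleton_le_iff_mem]; exact ⟨hb.2.1, h1⟩
  have hU2' : U ≤ LinearMap.ker (T b b) ⊓ LinearMap.ker M₂ := by
    rw [hUb, Submodule.span_singleton_le_iff_mem]; exact ⟨hb.2.1, h2⟩
  by_cases hle : LinearMap.ker (T b b) ⊓ LinearMap.ker M₁ ≤
      LinearMap.ker (T b b) ⊓ LinearMap.ker M₂
  · right
    refine ⟨_, hΛ1, ?_⟩
    refine (inf_eq_of_ne hΛ1.1 ?_ hU1 hU1' hUH).symm
    intro hΛH
    have haΛ := mem_of_line_le hV hT ha haa hsm hn hΛ1 (fun x hx => hΛH hx)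
    have haΛ2 := hle haΛ
    have hker : LinearMap.ker (T b b) ≤ LinearMap.ker (T a a) := fun c hc =>
      sq_eq_zero_of_forms hT hM haΛ.1 haΛ.1 haΛ.2 haΛ2.2 haΛ.2 haΛ2.2 hc
    have heq := Submodule.eq_of_le_of_finrank_eq hker
      (by rw [finrank_ker_of_ne hV hsb, finrank_ker_of_ne hV hsm])
    apply hn
    refine tp_of_eq ha haa hsm hb fun x hx => ?_
    have : x ∈ LinearMap.ker (T b b) := by rw [heq]; exact hx
    exact this
  · left
    exact ⟨_, hΛ1, _, hΛ2, (inf_eq_of_ne hΛ1.1 hle hU1 hU1' hU2').symm⟩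

end K656.TPoint
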