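import Groth.Agent.Cubic.K656.DoubleLine
import Groth.Agent.Cubic.K656.Pencil2
import Mathlib.RingTheory.MvPolynomial.Homogeneous
import Mathlib.RingTheory.Ideal.Quotient.Operations
import Mathlib.Algebra.MvPolynomial.Nilpotent

set_option autoImplicit false

/-! Finiteness of the T-points in the tangent plane of a smooth point which is not a T-point. -/

namespace K656.TPointMain

open K656.Trilin K656.Eckardt K656.TPoint K656.Sing K656.Pencil K656.DLine Module

universe u v

section Abs

variable {k : Type u} [Field k] {V : Type v} [AddCommGroup V] [Module k V]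
variable {T : V →ₗ[k] V →ₗ[k] V →ₗ[k] k}

/-- **Main theorem, abstract form.** -/
theorem finite_TPset [CharZero k] [IsAlgClosed k] [FiniteDimensional k V]
    (hV : finrank k V = 4) (hT : IsSym3 T) (hN : NoPlane T) (hC : NoCone T)
    {a : V} (ha : a ≠ 0) (haa : T a a a = 0) (hsm : ∃ w, T a a w ≠ 0) (hn : ¬ TP T a) :
    (TPset T a).Finite := by
  by_cases hfin : (Lines T).Finite
  · exact finite_of_lines_finite hV hT hN ha haa hsm hn hfin
  · by_cases hne : (TPset T a).Nonempty
    · obtain ⟨U, hU⟩ := hne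
      obtain ⟨b, hbU, hb0, -⟩ := exists_ne_zero_of_finrank_one hU.1
      have hb := hU.2.2 b hbU hb0
      obtain ⟨M₁, M₂, M₃, hM, h1, h2, hn1, hn2, hn3⟩ := exists_forms hV hT hN hb
      have hsb := hb.2.2.1
      have hΛ1 : LinearMap.ker (T b b) ⊓ LinearMap.ker M₁ ∈ Lines T :=
        line_of_factor hV hsb (fun x hx h => by rw [hM x hx, h]; ring) hn1
      have hΛ2 : LinearMap.ker (T b b) ⊓ LinearMap.ker M₂ ∈ Lines T :=
        line_of_factor hV hsb (fun x hx h => by rw [hM x hx, h]; ring) hn2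
      have hΛ3 : LinearMap.ker (T b b) ⊓ LinearMap.ker M₃ ∈ Lines T :=
        line_of_factor hV hsb (fun x hx h => by rw [hM x hx, h]; ring) hn3
      have hk3 := finrank_ker_of_ne hV hsb
      have hcov : Lines T ⊆ ({U | U ∈ Lines T ∧ U ⊓ (LinearMap.ker (T b b) ⊓ LinearMap.ker M₁) ≠ ⊥} ∪
          {U | U ∈ Lines T ∧ U ⊓ (LinearMap.ker (T b b) ⊓ LinearMap.ker M₂) ≠ ⊥}) ∪
          {U | U ∈ Lines T ∧ U ⊓ (LinearMap.ker (T b b) ⊓ LinearMap.ker M₃) ≠ ⊥} := by
        intro W hW
        obtain ⟨x, hxW, hxK, hx0⟩ := exists_mem_inf (P := W) (Q := LinearMap.ker (T b b))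
          (by rw [hW.1, hk3, hV]; norm_num)
        have hx := hM x hxK
        rw [hW.2 x hxW] at hx
        have hbot : ∀ M : V →ₗ[k] k, M x = 0 →
            W ⊓ (LinearMap.ker (T b b) ⊓ LinearMap.ker M) ≠ ⊥ := by
          intro M hMx h
          apply hx0
          have : x ∈ W ⊓ (LinearMap.ker (T b b) ⊓ LinearMap.ker M) := ⟨hxW, hxK, hMx⟩
          rw [h] at this
          exact (Submodule.mem_bot k).mp this
        rcases mul_eq_zero.mp hx.symm with h | h
        · rcases mul_eq_zero.mp h with h | h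
          · exact Or.inl (Or.inl ⟨hW, hbot _ h⟩)
          · exact Or.inl (Or.inr ⟨hW, hbot _ h⟩)
        · exact Or.inr ⟨hW, hbot _ h⟩
      have key : ∀ Λ ∈ Lines T, {U | U ∈ Lines T ∧ U ⊓ Λ ≠ ⊥}.Infinite → (TPset T a).Finite := by
        intro Λ hΛ hinf
        have h3 : {U : Submodule k V | U ∈ Lines T ∧ U ≠ Λ ∧ U ⊓ Λ ≠ ⊥}.Infinite := by
          refine (hinf.sdiff (Set.finite_singleton Λ)).mono ?_
          rintro W ⟨hW, hWΛ⟩
          exact ⟨hW.1, hWΛ, hW.2⟩
        obtain ⟨D, hD⟩ := exists_doubleLine hV hT hN (singSet_infinite hV hT hN hC hΛ h3)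
        exact finite_of_doubleLine hV hT hN hC hD ha haa hsm hn
      by_contra hcon
      have f1 := Set.not_infinite.mp (fun h => hcon (key _ hΛ1 h))
      have f2 := Set.not_infinite.mp (fun h => hcon (key _ hΛ2 h))
      have f3 := Set.not_infinite.mp (fun h => hcon (key _ hΛ3 h))
      exact hfin (((f1.union f2).union f3).subset hcov)
    · rw [Set.not_nonempty_iff_eq_empty] at hne
      rw [hne]; exact Set.finite_empty

end Abs

section Poly

open MvPolynomial

variable {k : Type u} [Field k] {n : ℕ}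

/-- the linear polynomial with given coefficients -/
noncomputable def lin (c : Fin n → k) : MvPolynomial (Fin n) k := ∑ i, C (c i) * X i

theorem lin_eval (c v : Fin n → k) : eval v (lin c) = ∑ i, c i * v i := by
  simp [lin]

theorem lin_hom (c : Fin n → k) : (lin c).IsHomogeneous 1 := by
  unfold lin
  exact IsHomogeneous.sum _ _ _ fun i _ => isHomogeneous_C_mul_X _ _

/-- A polynomial vanishing on a hyperplane is divisible by its equation. -/
theorem mem_span_lin [Infinite k] {c : Fin n → k} {i₀ : Fin n} (hc : c i₀ ≠ 0)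
    {G : MvPolynomial (Fin n) k} (hG : ∀ v, ∑ i, c i * v i = 0 → eval v G = 0) :
    G ∈ Ideal.span {lin c} := by
  set I := Ideal.span {lin c} with hI
  set s : Fin n → MvPolynomial (Fin n) k := fun i =>
    if i = i₀ then X i₀ - C (c i₀)⁻¹ * lin c else X i with hs
  have h1 : (Ideal.Quotient.mkₐ k I).comp (aeval s) = Ideal.Quotient.mkₐ k I := by
    apply MvPolynomial.algHom_ext
    intro i
    rw [AlgHom.comp_apply, aeval_X, hs]
    by_cases hi : i = i₀
    · simp only [hi, if_true]
      rw [map_sub, map_mul]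
      have : (Ideal.Quotient.mkₐ k I) (lin c) = 0 := by
        rw [Ideal.Quotient.mkₐ_eq_mk, Ideal.Quotient.eq_zero_iff_mem, hI]
        exact Ideal.subset_span rfl
      rw [this, mul_zero, sub_zero]
    · simp only [hi, if_false]
  have h2 : aeval s G = 0 := by
    apply MvPolynomial.funext
    intro v
    rw [map_aeval, map_zero]
    have h3 : (eval v).comp (algebraMap k (MvPolynomial (Fin n) k)) = RingHom.id k := by
      ext a; simp
    rw [h3, coe_eval₂Hom]
    have h4 : (fun i => eval v (s i)) = v - Pi.single i₀ ((c i₀)⁻¹ * ∑ i, c i * v i) := by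
      funext i
      rw [hs]
      by_cases hi : i = i₀
      · subst hi
        simp [lin_eval]
      · simp [hi]
    have h5 : eval₂ (RingHom.id k) (fun i => eval v (s i)) G =
        eval (v - Pi.single i₀ ((c i₀)⁻¹ * ∑ i, c i * v i)) G := by rw [h4]; rfl
    rw [h5]
    apply hG
    have h6 : ∀ i, c i * (v - Pi.single i₀ ((c i₀)⁻¹ * ∑ i, c i * v i) : Fin n → k) i =
        c i * v i - (if i = i₀ then ∑ i, c i * v i else 0) := by
      intro i
      by_cases hi : i = i₀
      · subst hi
        simp; field_simp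
      · simp [hi]
    simp only [h6, Finset.sum_sub_distrib]
    simp
  have h3 := congrArg (fun φ : MvPolynomial (Fin n) k →ₐ[k] _ => φ G) h1
  simp only [AlgHom.comp_apply, h2, map_zero] at h3
  rw [Ideal.Quotient.mkₐ_eq_mk] at h3
  exact Ideal.Quotient.eq_zero_iff_mem.mp h3.symm

theorem exists_lin_of_linearMap (f : (Fin n → k) →ₗ[k] k) (v : Fin n → k) :
    f v = ∑ i, f (Pi.single i 1) * v i := by
  conv_lhs => rw [← Finset.univ_sum_single v, map_sum]
  refine Finset.sum_congr rfl fun i _ => ?_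
  have : (Pi.single i (v i) : Fin n → k) = v i • Pi.single i 1 := by
    rw [← Pi.single_smul]; simp
  rw [this, map_smul, smul_eq_mul, mul_comm]

theorem noPlane_of_irreducible [CharZero k] {F : MvPolynomial (Fin 4) k}
    (hF : F.IsHomogeneous 3) (hirr : Irreducible F) : NoPlane (tri F) := by
  have : Infinite k := Infinite.of_injective (Nat.cast : ℕ → k) Nat.cast_injective
  intro P hP
  by_contra hc
  push Not at hc
  have hPt : P < ⊤ := by
    refine lt_top_iff_ne_top.mpr fun h => ?_
    rw [h, finrank_top] at hP; simp at hP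
  obtain ⟨f, hf0, hPf⟩ := Submodule.exists_le_ker_of_lt_top P hPt
  have hker : P = LinearMap.ker f := by
    apply Submodule.eq_of_le_of_finrank_eq hPf
    rw [hP, mem_ker_finrank (n := 3) (by simp) hf0]
  obtain ⟨i₀, hi₀⟩ : ∃ i, f (Pi.single i 1) ≠ 0 := by
    by_contra hcon
    push Not at hcon
    apply hf0
    refine LinearMap.ext fun v => ?_
    rw [exists_lin_of_linearMap f v]
    simp [hcon]
  have hmem : F ∈ Ideal.span {lin (fun i => f (Pi.single i 1))} := by
    apply mem_span_lin (i₀ := i₀) hi₀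
    intro v hv
    rw [← exists_lin_of_linearMap f v] at hv
    rw [← tri_diag hF]
    exact hc v (by rw [hker]; exact hv)
  obtain ⟨G, hG⟩ := Ideal.mem_span_singleton'.mp hmem
  rcases hirr.isUnit_or_isUnit hG.symm with h | h
  · -- G unit
    obtain ⟨r, hr, hGr⟩ := MvPolynomial.isUnit_iff_eq_C_of_isReduced.mp h
    have h1 : F.IsHomogeneous 1 := by
      rw [← hG, hGr]
      have := (isHomogeneous_C (Fin 4) r).mul (lin_hom (fun i => f (Pi.single i 1)))
      rwa [zero_add] at this
    have h3 := hF.inj_right h1 hirr.ne_zero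
    omega
  · -- lin unit
    obtain ⟨r, hr, hGr⟩ := MvPolynomial.isUnit_iff_eq_C_of_isReduced.mp h
    have h1 := congrArg (eval (0 : Fin 4 → k)) hGr
    have h2 := congrArg (eval (Pi.single i₀ 1 : Fin 4 → k)) hGr
    rw [lin_eval] at h1 h2
    rw [← exists_lin_of_linearMap] at h1 h2
    rw [map_zero, eval_C] at h1
    rw [eval_C, ← h1] at h2
    exact hi₀ h2

theorem noCone_tri [CharZero k] {F : MvPolynomial (Fin 4) k}
    (hF : F.IsHomogeneous 3)
    (hcone : ¬ ∃ v : Fin 4 → k, v ≠ 0 ∧ ∑ i : Fin 4, v i • MvPolynomial.pderiv i F = 0) :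
    NoCone (tri F) := by
  have : Infinite k := Infinite.of_injective (Nat.cast : ℕ → k) Nat.cast_injective
  intro v hv
  by_contra hv0
  apply hcone
  refine ⟨v, hv0, ?_⟩
  apply MvPolynomial.funext
  intro x
  rw [map_sum, map_zero]
  simp only [smul_eval]
  rw [← tri_pderiv hF x v, (tri_sym F).rot' x x v, hv, mul_zero]

/-- T-points, polynomial form -/
def tpPoly (F : MvPolynomial (Fin 4) k) (b : Fin 4 → k) : Prop :=
  b ≠ 0 ∧ MvPolynomial.eval b F = 0 ∧
      (∃ i : Fin 4, MvPolynomial.eval b (MvPolynomial.pderiv i F) ≠ 0) ∧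
      ∃ L₁ L₂ L₃ : MvPolynomial (Fin 4) k, L₁.IsHomogeneous 1 ∧ L₂.IsHomogeneous 1 ∧
        L₃.IsHomogeneous 1 ∧ F - L₁ * L₂ * L₃ ∈ Ideal.span {∑ i : Fin 4,
          MvPolynomial.C (MvPolynomial.eval b (MvPolynomial.pderiv i F)) * MvPolynomial.X i}

theorem exists_linearMap_of_hom {L : MvPolynomial (Fin 4) k} (hL : L.IsHomogeneous 1) :
    ∃ f : (Fin 4 → k) →ₗ[k] k, ∀ v, eval v L = f v := by
  refine ⟨∑ i, (eval 0 (pderiv i L)) • (LinearMap.proj i : (Fin 4 → k) →ₗ[k] k), fun v => ?_⟩
  rw [eval_euler1 hL]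
  simp

theorem tpPoly_iff [CharZero k] {F : MvPolynomial (Fin 4) k} (hF : F.IsHomogeneous 3)
    (b : Fin 4 → k) : tpPoly F b ↔ TP (tri F) b := by
  have : Infinite k := Infinite.of_injective (Nat.cast : ℕ → k) Nat.cast_injective
  have hℓ : ∀ x, eval x (∑ i : Fin 4, C (eval b (pderiv i F)) * X i) = 3 * tri F b b x := by
    intro x
    rw [tri_pderiv hF]
    simp [mul_comm]
  have h3 : (3 : k) ≠ 0 := by norm_num
  unfold tpPoly TP
  rw [exists_pderiv_ne_zero_iff hF, tri_diag hF]
  refine and_congr_right fun hb0 => and_congr_right fun hb => and_congr_right fun hsm => ?_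
  constructor
  · rintro ⟨L₁, L₂, L₃, h1, h2, h3', hmem⟩
    obtain ⟨f₁, hf₁⟩ := exists_linearMap_of_hom h1
    obtain ⟨f₂, hf₂⟩ := exists_linearMap_of_hom h2
    obtain ⟨f₃, hf₃⟩ := exists_linearMap_of_hom h3'
    refine ⟨f₁, f₂, f₃, fun x hx => ?_⟩
    obtain ⟨G, hG⟩ := Ideal.mem_span_singleton'.mp hmem
    have h4 := congrArg (eval x) hG
    rw [map_mul, hℓ, hx, mul_zero, mul_zero, map_sub, map_mul, map_mul, hf₁, hf₂, hf₃] at h4
    rw [tri_diag hF]
    exact (sub_eq_zero.mp h4.symm)
  · rintro ⟨f₁, f₂, f₃, hf⟩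
    refine ⟨lin (fun i => f₁ (Pi.single i 1)), lin (fun i => f₂ (Pi.single i 1)),
      lin (fun i => f₃ (Pi.single i 1)), lin_hom _, lin_hom _, lin_hom _, ?_⟩
    obtain ⟨i₀, hi₀⟩ := (exists_pderiv_ne_zero_iff hF b).mpr hsm
    apply mem_span_lin (c := fun i => eval b (pderiv i F)) (i₀ := i₀) hi₀
    intro v hv
    have h4 : tri F b b v = 0 := by
      have h5 := tri_pderiv hF b v
      have h6 : ∑ l, v l * eval b (pderiv l F) = 0 := by
        rw [← hv]; exact Finset.sum_congr rfl fun i _ => mul_comm _ _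
      rw [h6] at h5
      exact (mul_eq_zero.mp h5).resolve_left h3
    rw [map_sub, map_mul, map_mul, lin_eval, lin_eval, lin_eval, ← exists_lin_of_linearMap,
      ← exists_lin_of_linearMap, ← exists_lin_of_linearMap, ← tri_diag hF, hf v h4, sub_self]

end Poly

end K656.TPointMain
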